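import Mathlib.Data.Set.Card
import Mathlib.Data.Set.Finite.Lemmas
import Mathlib.Algebra.Group.Pointwise.Set.Card
import Cfsg.Agent.H77.ONS

/-! Extremely primitive groups: basic facts and Manning's faithfulness theorem. -/

set_option autoImplicit false

namespace Cfsg.Agent.H77

open MulAction
open scoped Pointwise

variable {G Ω : Type*} [Group G] [MulAction G Ω]

theorem mem_orbit_stab {a w x : Ω} :
    x ∈ orbit (stabilizer G a) w ↔ ∃ h : G, h • a = a ∧ h • w = x :=
  ⟨fun ⟨h, hh⟩ => ⟨h, h.2, hh⟩, fun ⟨h, h1, h2⟩ => ⟨⟨h, h1⟩, h2⟩⟩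

/-- A normal subgroup fixing a point of a transitive faithful action is trivial. -/
theorem eq_bot_of_normal_le_stabilizer [FaithfulSMul G Ω] [IsPretransitive G Ω] {K : Subgroup G}
    (hK : K.Normal) {a : Ω} (h : K ≤ stabilizer G a) : K = ⊥ := by
  rw [Subgroup.eq_bot_iff_forall]
  intro k hk
  apply eq_one_of_forall_smul (Ω := Ω)
  intro ω
  obtain ⟨g, rfl⟩ := exists_smul_eq G a ω
  have := h (hK.conj_mem k hk g⁻¹)
  rwa [mem_stabilizer_iff, inv_inv, mul_smul, mul_smul, inv_smul_eq_iff] at this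

/-- In a non-regular primitive group a point stabiliser fixes only one point. -/
theorem not_stabilizer_le [FaithfulSMul G Ω] (hprim : IsPreprimitive G Ω) {a b : Ω}
    (hH : stabilizer G a ≠ ⊥) (hab : b ≠ a) : ¬ stabilizer G a ≤ stabilizer G b := by
  intro hle
  have : Nontrivial Ω := ⟨b, a, hab⟩
  have hc := IsPreprimitive.isCoatom_stabilizer_of_isPreprimitive G a
  have hc' := IsPreprimitive.isCoatom_stabilizer_of_isPreprimitive G b
  have he : stabilizer G a = stabilizer G b := by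
    rcases hle.eq_or_lt with h | h
    · exact h
    · exact absurd (hc.2 _ h) hc'.1
  obtain ⟨g, rfl⟩ := exists_smul_eq G a b
  have hg : g ∈ Subgroup.normalizer (stabilizer G a : Set G) := by
    rw [Subgroup.mem_normalizer_iff]
    intro h
    conv_rhs => rw [he]
    simp [mem_stabilizer_iff, mul_smul]
  have hlt : stabilizer G a < Subgroup.normalizer (stabilizer G a : Set G) :=
    lt_of_le_of_ne Subgroup.le_normalizer fun h => hab (by rw [← h] at hg; exact hg)
  exact hH (eq_bot_of_normal_le_stabilizer (Subgroup.normalizer_eq_top_iff.mp (hc.2 _ hlt)) le_rfl)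

theorem stabilizer_ne_bot [IsPretransitive G Ω] {a : Ω} (hH : stabilizer G a ≠ ⊥) (b : Ω) :
    stabilizer G b ≠ ⊥ := by
  obtain ⟨g, rfl⟩ := exists_smul_eq G a b
  obtain ⟨h, hh, hh1⟩ := exists_ne_one_mem hH
  intro hb
  have : g * h * g⁻¹ ∈ stabilizer G (g • a) := by
    rw [mem_stabilizer_iff] at hh ⊢
    simp [mul_smul, hh]
  rw [hb, Subgroup.mem_bot] at this
  apply hh1
  have h2 : h = g⁻¹ * (g * h * g⁻¹) * g := by group
  rw [h2, this]; simp

/-- A subgroup containing two distinct point stabilisers is everything. -/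
theorem eq_top_of_two_stabilizers [FaithfulSMul G Ω] (hprim : IsPreprimitive G Ω) {a b : Ω}
    (hH : stabilizer G a ≠ ⊥) (hab : b ≠ a) {X : Subgroup G} (ha : stabilizer G a ≤ X)
    (hb : stabilizer G b ≤ X) : X = ⊤ := by
  have : Nontrivial Ω := ⟨b, a, hab⟩
  refine (IsPreprimitive.isCoatom_stabilizer_of_isPreprimitive G a).2 X (lt_of_le_of_ne ha ?_)
  rintro rfl
  exact not_stabilizer_le hprim (stabilizer_ne_bot hH b) hab.symm hb

/-- A normal subgroup of a point stabiliser primitive on a suborbit is trivial or transitive on it. -/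
theorem fix_or_trans_on_orbit {a w : Ω}
    (hep : IsPreprimitive (stabilizer G a) (orbit (stabilizer G a) w)) {K : Subgroup G}
    (hK : K ≤ stabilizer G a) (hKn : ∀ h ∈ stabilizer G a, ∀ k ∈ K, h * k * h⁻¹ ∈ K) :
    (∀ k ∈ K, ∀ x ∈ orbit (stabilizer G a) w, k • x = x) ∨
      ∀ x ∈ orbit (stabilizer G a) w, ∃ k ∈ K, k • w = x := by
  have : (K.subgroupOf (stabilizer G a)).Normal :=
    ⟨fun k hk h => by simpa [Subgroup.mem_subgroupOf] using hKn h h.2 k hk⟩
  by_cases h : fixedPoints (K.subgroupOf (stabilizer G a)) (orbit (stabilizer G a) w) = Set.univ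
  · left
    intro k hk x hx
    have : (⟨x, hx⟩ : orbit (stabilizer G a) w) ∈
      fixedPoints (K.subgroupOf (stabilizer G a)) (orbit (stabilizer G a) w) := h ▸ Set.mem_univ _
    exact congrArg Subtype.val (this ⟨⟨k, hK hk⟩, hk⟩)
  · right
    have := IsQuasiPreprimitive.isPretransitive_of_normal h
    intro x hx
    obtain ⟨k, hk⟩ := exists_smul_eq (K.subgroupOf (stabilizer G a))
      (⟨w, mem_orbit_self w⟩ : orbit (stabilizer G a) w) ⟨x, hx⟩
    exact ⟨k, k.2, congrArg Subtype.val hk⟩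

/-- Two-point stabilisers are maximal in point stabilisers. -/
theorem max_two_point {a w : Ω}
    (hep : IsPreprimitive (stabilizer G a) (orbit (stabilizer G a) w)) {X : Subgroup G}
    (hX : ∀ h : G, h • a = a → h • w = w → h ∈ X) :
    (∀ h ∈ X, h • a = a → h • w = w) ∨ stabilizer G a ≤ X := by
  rcases subsingleton_or_nontrivial (orbit (stabilizer G a) w) with h | h
  · left
    intro g _ hg
    exact congrArg Subtype.val (Subsingleton.elim (⟨g • w, ⟨⟨g, hg⟩, rfl⟩⟩ :
      orbit (stabilizer G a) w) ⟨w, mem_orbit_self w⟩)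
  have hc := IsPreprimitive.isCoatom_stabilizer_of_isPreprimitive (stabilizer G a)
    (⟨w, mem_orbit_self w⟩ : orbit (stabilizer G a) w)
  have hle : stabilizer (stabilizer G a) (⟨w, mem_orbit_self w⟩ : orbit (stabilizer G a) w) ≤
      X.subgroupOf (stabilizer G a) := fun g hg => hX g g.2 (congrArg Subtype.val hg)
  rcases hle.eq_or_lt with h1 | h1
  · left
    intro g hg hga
    have : (⟨g, hga⟩ : stabilizer G a) ∈ X.subgroupOf (stabilizer G a) := hg
    rw [← h1] at this
    exact congrArg Subtype.val this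
  · right
    exact Subgroup.subgroupOf_eq_top.mp (hc.2 _ h1)

/-- The kernel of the action of `G_a` on its orbit through `w`. -/
def orbKer (a w : Ω) : Subgroup G where
  carrier := {g | g • a = a ∧ ∀ x ∈ orbit (stabilizer G a) w, g • x = x}
  one_mem' := ⟨one_smul _ _, fun _ _ => one_smul _ _⟩
  mul_mem' := fun hg hh => ⟨by rw [mul_smul, hh.1, hg.1],
    fun x hx => by rw [mul_smul, hh.2 x hx, hg.2 x hx]⟩
  inv_mem' := fun hg => ⟨by rw [inv_smul_eq_iff, hg.1],
    fun x hx => by rw [inv_smul_eq_iff, hg.2 x hx]⟩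

theorem orbKer_conj {a w : Ω} {h k : G} (hh : h • a = a) (hk : k ∈ orbKer (G := G) a w) :
    h * k * h⁻¹ ∈ orbKer (G := G) a w := by
  have hh' : h⁻¹ • a = a := by rw [inv_smul_eq_iff, hh]
  refine ⟨by rw [mul_smul, mul_smul, hh', hk.1, hh], fun x hx => ?_⟩
  rw [mul_smul, mul_smul, hk.2 (h⁻¹ • x) (mem_orbit_of_mem_orbit (⟨h⁻¹, hh'⟩ : stabilizer G a) hx),
    smul_inv_smul]

theorem smul_orbit_stab (g : G) (a w : Ω) :
    g • orbit (stabilizer G a) w = orbit (stabilizer G (g • a)) (g • w) := by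
  ext x
  rw [Set.mem_smul_set_iff_inv_smul_mem, mem_orbit_stab, mem_orbit_stab]
  constructor
  · rintro ⟨h, h1, h2⟩
    exact ⟨g * h * g⁻¹, by simp [mul_smul, h1], by simp [mul_smul, h2]⟩
  · rintro ⟨h, h1, h2⟩
    exact ⟨g⁻¹ * h * g, by simp [mul_smul, h1], by simp [mul_smul, h2]⟩

/-- Manning's theorem: in an extremely primitive group a point stabiliser is faithful on each
non-trivial suborbit. -/
theorem orbKer_eq_bot [Finite G] [Finite Ω] [FaithfulSMul G Ω] (hprim : IsPreprimitive G Ω) {α : Ω}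
    (hH : stabilizer G α ≠ ⊥)
    (hep : ∀ ω : Ω, IsPreprimitive (stabilizer G α) (orbit (stabilizer G α) ω)) {ω : Ω}
    (hω : ω ≠ α) : orbKer (G := G) α ω = ⊥ := by
  obtain ⟨β, hβ, hmax⟩ := Set.exists_max_image {w : Ω | w ≠ α}
    (fun w => Nat.card (orbKer (G := G) α w)) (Set.toFinite _) ⟨ω, hω⟩
  suffices h : orbKer (G := G) α β = ⊥ by
    have := hmax ω hω
    rw [h, Subgroup.card_bot] at this
    exact Subgroup.card_le_one_iff_eq_bot _ |>.mp this
  set K := orbKer (G := G) α β with hKdef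
  by_contra hK
  obtain ⟨γ, ⟨k₀, hk₀, hk₀γ⟩, hγ⟩ := Set.exists_max_image {c : Ω | ∃ k ∈ K, k • c ≠ c}
    (fun c => (orbit (stabilizer G α) c).ncard) (Set.toFinite _) (by
      obtain ⟨k, hk, hk1⟩ := exists_ne_one_mem hK
      by_contra h
      apply hk1
      apply eq_one_of_forall_smul (Ω := Ω)
      intro c
      by_contra hc
      exact h ⟨c, k, hk, hc⟩)
  have hγα : γ ≠ α := by rintro rfl; exact hk₀γ hk₀.1
  have htr := (fix_or_trans_on_orbit (hep γ) (K := K) (fun k hk => hk.1)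
    (fun h hh k hk => orbKer_conj hh hk)).resolve_left
      fun h => hk₀γ (h k₀ hk₀ γ (mem_orbit_self γ))
  have hsub : orbit (stabilizer G α) γ ⊆ orbit (stabilizer G β) γ := by
    intro x hx
    obtain ⟨k, hk, rfl⟩ := htr x hx
    exact mem_orbit_stab.mpr ⟨k, hk.2 β (mem_orbit_self β), rfl⟩
  have hstab : ∀ a : Ω, stabilizer G a ≤ stabilizer G (orbit (stabilizer G a) γ) := by
    intro a h hh
    exact smul_orbit (⟨h, hh⟩ : stabilizer G a) γ
  have hnt : stabilizer G (orbit (stabilizer G α) γ) ≠ ⊤ := by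
    intro h
    obtain ⟨g, hg⟩ := exists_smul_eq G γ α
    have h1 : g ∈ stabilizer G (orbit (stabilizer G α) γ) := h ▸ Subgroup.mem_top g
    have h2 : g • γ ∈ g • orbit (stabilizer G α) γ := Set.smul_mem_smul_set (mem_orbit_self γ)
    rw [h1, hg, mem_orbit_stab] at h2
    obtain ⟨u, hu1, hu2⟩ := h2
    exact hγα ((smul_left_cancel_iff u).mp (hu2.trans hu1.symm))
  have hlt : (orbit (stabilizer G α) γ).ncard < (orbit (stabilizer G β) γ).ncard := by
    apply Set.ncard_lt_ncard (lt_of_le_of_ne hsub fun h => hnt ?_)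
    exact eq_top_of_two_stabilizers hprim hH hβ (hstab α) (h ▸ hstab β)
  obtain ⟨g, hg⟩ := exists_smul_eq G α β
  have hfix : ∀ k ∈ cj g K, ∀ x ∈ orbit (stabilizer G α) γ, k • x = x := by
    intro k hk x hx
    by_contra hne
    have h1 := hγ (g⁻¹ • x) ⟨_, mem_cj.mp hk, fun h => hne (by simpa [mul_smul] using h)⟩
    have h2 := smul_orbit_stab g α (g⁻¹ • x)
    rw [smul_inv_smul, hg, orbit_eq_iff.mpr (hsub hx)] at h2
    rw [← h2, Set.ncard_smul_set] at hlt
    omega
  have : Nontrivial Ω := ⟨γ, α, hγα⟩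
  have hle : cj g K ≤ orbKer α γ := by
    intro k hk
    refine ⟨?_, hfix k hk⟩
    have h1 : stabilizer G α = stabilizer G (orbit (stabilizer G α) γ) := by
      rcases (hstab α).eq_or_lt with h | h
      · exact h
      · exact absurd ((IsPreprimitive.isCoatom_stabilizer_of_isPreprimitive G α).2 _ h) hnt
    rw [← mem_stabilizer_iff, h1, mem_stabilizer_iff]
    ext x
    rw [Set.mem_smul_set]
    exact ⟨fun ⟨y, hy, h⟩ => by rw [← h, hfix k hk y hy]; exact hy, fun h => ⟨x, h, hfix k hk x h⟩⟩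
  have hcard : Nat.card K ≤ Nat.card (cj g K) :=
    Nat.card_le_card_of_injective (fun k : K => (⟨g * k * g⁻¹, conj_mem_cj k.2⟩ : cj g K))
      fun a b h => Subtype.ext (by simpa using h)
  have he : cj g K = orbKer α γ := Subgroup.eq_of_le_of_card_ge hle ((hmax γ hγα).trans hcard)
  have hnorm : Subgroup.normalizer (cj g K : Set G) = ⊤ := by
    apply eq_top_of_two_stabilizers hprim hH hβ
    · intro h hh
      rw [he]
      exact Subgroup.mem_normalizer_fintype fun k hk => orbKer_conj hh hk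
    · intro h hh
      refine Subgroup.mem_normalizer_fintype fun k hk => ?_
      have h1 : (g⁻¹ * h * g) • α = α := by
        rw [mul_smul, mul_smul, hg, hh, ← hg, inv_smul_smul]
      have := orbKer_conj h1 (mem_cj.mp hk)
      apply mem_cj.mpr
      simpa [mul_assoc] using this
  have hbot := eq_bot_of_normal_le_stabilizer (Subgroup.normalizer_eq_top_iff.mp hnorm) (a := α)
    fun k hk => (hle hk).1
  rw [hbot, Subgroup.card_bot] at hcard
  exact hK (Subgroup.card_le_one_iff_eq_bot _ |>.mp hcard)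

/-- A non-trivial normal subgroup of the point stabiliser is transitive on every suborbit. -/
theorem trans_on_orbit [Finite G] [Finite Ω] [FaithfulSMul G Ω] (hprim : IsPreprimitive G Ω) {α : Ω}
    (hep : ∀ ω : Ω, IsPreprimitive (stabilizer G α) (orbit (stabilizer G α) ω)) {K : Subgroup G}
    (hK1 : K ≠ ⊥) (hK : K ≤ stabilizer G α)
    (hKn : ∀ h ∈ stabilizer G α, ∀ k ∈ K, h * k * h⁻¹ ∈ K) (w : Ω) :
    ∀ x ∈ orbit (stabilizer G α) w, ∃ k ∈ K, k • w = x := by
  by_cases hw : w = α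
  · subst hw
    rintro _ ⟨h, rfl⟩
    exact ⟨1, K.one_mem, by rw [one_smul]; exact h.2.symm⟩
  refine (fix_or_trans_on_orbit (hep w) hK hKn).resolve_left fun h => hK1 ?_
  rw [eq_bot_iff, ← orbKer_eq_bot hprim (fun h => hK1 (eq_bot_iff.mpr (h ▸ hK))) hep hw]
  exact fun k hk => ⟨hK hk, h k hk⟩

/-- An element of `G_α` fixing `w ≠ α` all of whose `K`-conjugates fix `w` is trivial. -/
theorem eq_one_of_conj_fix [Finite G] [Finite Ω] [FaithfulSMul G Ω] (hprim : IsPreprimitive G Ω)
    {α : Ω} (hep : ∀ ω : Ω, IsPreprimitive (stabilizer G α) (orbit (stabilizer G α) ω))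
    {K : Subgroup G} (hK1 : K ≠ ⊥) (hK : K ≤ stabilizer G α)
    (hKn : ∀ h ∈ stabilizer G α, ∀ k ∈ K, h * k * h⁻¹ ∈ K) {w : Ω} (hw : w ≠ α) {x : G}
    (hx : x • α = α) (hfix : ∀ k ∈ K, x • k • w = k • w) : x = 1 := by
  have : x ∈ orbKer α w := ⟨hx, fun y hy => by
    obtain ⟨k, hk, rfl⟩ := trans_on_orbit hprim hep hK1 hK hKn w y hy
    exact hfix k hk⟩
  rwa [orbKer_eq_bot hprim (fun h => hK1 (eq_bot_iff.mpr (h ▸ hK))) hep hw, Subgroup.mem_bot] at this

end Cfsg.Agent.H77
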