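import Cfsg.Agent.H77.ExtPrim
import Cfsg.Agent.H77.Derange
import Cfsg.Agent.H2.MinNormal

/-! Abelian normal subgroups of the point stabiliser of an extremely primitive group. -/

set_option autoImplicit false

namespace Cfsg.Agent.H77

open MulAction

variable {G Ω : Type*} [Group G] [MulAction G Ω] [Finite G] [Finite Ω] [FaithfulSMul G Ω]

theorem mem_of_comm_abelian (hprim : IsPreprimitive G Ω) {α : Ω}
    (hep : ∀ ω : Ω, IsPreprimitive (stabilizer G α) (orbit (stabilizer G α) ω)) {A : Subgroup G}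
    (hA1 : A ≠ ⊥) (hA : A ≤ stabilizer G α)
    (hAn : ∀ h ∈ stabilizer G α, ∀ k ∈ A, h * k * h⁻¹ ∈ A) (hc : ∀ a ∈ A, ∀ b ∈ A, a * b = b * a)
    {h : G} (hh : h • α = α) (hha : ∀ a ∈ A, h * a = a * h) : h ∈ A := by
  have := nontrivial_of_ne_bot (Ω := Ω) hA1
  obtain ⟨w, hw⟩ := exists_ne α
  obtain ⟨a, ha, haw⟩ := trans_on_orbit hprim hep hA1 hA hAn w (h • w) ⟨⟨h, hh⟩, rfl⟩
  have h1 : a⁻¹ * h = 1 := by
    refine eq_one_of_conj_fix hprim hep hA1 hA hAn hw
      (by rw [mul_smul, hh]; exact (stabilizer G α).inv_mem (hA ha)) fun k hk => ?_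
    rw [← mul_smul, mul_assoc, hha k hk, ← mul_assoc, hc _ (A.inv_mem ha) k hk, mul_smul, mul_smul,
      ← haw, inv_smul_smul]
  rw [← inv_mul_eq_one.mp h1]
  exact ha

theorem card_orbit_eq_of_abelian (hprim : IsPreprimitive G Ω) {α : Ω}
    (hep : ∀ ω : Ω, IsPreprimitive (stabilizer G α) (orbit (stabilizer G α) ω)) {A : Subgroup G}
    (hA1 : A ≠ ⊥) (hA : A ≤ stabilizer G α)
    (hAn : ∀ h ∈ stabilizer G α, ∀ k ∈ A, h * k * h⁻¹ ∈ A) (hc : ∀ a ∈ A, ∀ b ∈ A, a * b = b * a)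
    {w : Ω} (hw : w ≠ α) : Nat.card (orbit (stabilizer G α) w) = Nat.card A := by
  symm
  refine Nat.card_eq_of_bijective (fun a : A => (⟨(a : G) • w, ⟨⟨a, hA a.2⟩, rfl⟩⟩ :
    orbit (stabilizer G α) w)) ⟨fun a b hab => ?_, fun x => ?_⟩
  · have h0 : (a : G) • w = (b : G) • w := congrArg Subtype.val hab
    have h1 : (b : G)⁻¹ * a = 1 := by
      have hm := A.mul_mem (A.inv_mem b.2) a.2
      refine eq_one_of_conj_fix hprim hep hA1 hA hAn hw (hA hm) fun k hk => ?_
      rw [← mul_smul, hc _ hm k hk, mul_smul, mul_smul, h0, inv_smul_smul]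
    exact Subtype.ext (inv_mul_eq_one.mp h1).symm
  · obtain ⟨k, hk, hkx⟩ := trans_on_orbit hprim hep hA1 hA hAn w x x.2
    exact ⟨⟨k, hk⟩, Subtype.ext hkx⟩

omit [FaithfulSMul G Ω] [Finite G] in
theorem dvd_card_sub_one (α : Ω) (m : ℕ)
    (h : ∀ w : Ω, w ≠ α → m ∣ Nat.card (orbit (stabilizer G α) w)) : m ∣ Nat.card Ω - 1 := by
  have h := dvd_card_of_forall_orbit (G := stabilizer G α) ({α}ᶜ : Set Ω) (by
    intro g x hx hgx
    exact hx ((smul_left_cancel_iff g).mp (hgx.trans (g.2).symm))) m h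
  have h2 := Set.ncard_add_ncard_compl ({α} : Set Ω)
  rw [Set.ncard_singleton] at h2
  rwa [show Nat.card Ω - 1 = ({α}ᶜ : Set Ω).ncard by omega]

omit [FaithfulSMul G Ω] [Finite Ω] in
/-- If some two-point stabiliser is trivial the point stabiliser has prime order. -/
theorem prime_card_of_two_point {α w : Ω} (hH : stabilizer G α ≠ ⊥)
    (hep : IsPreprimitive (stabilizer G α) (orbit (stabilizer G α) w))
    (h : ∀ k : G, k • α = α → k • w = w → k = 1) : (Nat.card (stabilizer G α)).Prime := by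
  obtain ⟨r, hr, x, hx, hxr⟩ := H2.exists_mem_prime_orderOf hH
  have hz : stabilizer G α = Subgroup.zpowers x := by
    refine le_antisymm ?_ ((Subgroup.zpowers_le).mpr hx)
    rcases max_two_point hep (X := Subgroup.zpowers x) (fun k hk hkx => by
      rw [h k hk hkx]; exact Subgroup.one_mem _) with h1 | h1
    · have := h x hx (h1 x (Subgroup.mem_zpowers x) hx)
      rw [this, orderOf_one] at hxr
      exact absurd hxr hr.one_lt.ne
    · exact h1
  rw [hz, Nat.card_zpowers, hxr]; exact hr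

end Cfsg.Agent.H77
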