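import Mathlib.GroupTheory.GroupAction.MultipleTransitivity
import Cfsg.Agent.H77.ONS
import Cfsg.Agent.H77.Derange
import Cfsg.Agent.H2.MinNormal

/-! Conjugacy classes of derangements. -/

set_option autoImplicit false

namespace Cfsg.Agent.H77

open MulAction

variable {G Ω : Type*} [Group G] [MulAction G Ω]

theorem conj_derangement {x : G} (hx : ∀ ω : Ω, x • ω ≠ ω) (g : G) :
    ∀ ω : Ω, (g * x * g⁻¹) • ω ≠ ω := by
  intro ω h
  apply hx (g⁻¹ • ω)
  rw [mul_smul, mul_smul] at h
  rw [eq_inv_smul_iff, h]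

theorem orderOf_eq_of_isConj {x y : G} (h : IsConj x y) : orderOf x = orderOf y := by
  obtain ⟨u, hu⟩ := h
  exact SemiconjBy.orderOf_eq (u : G) hu

theorem classes_eq_one_iff (P : G → Prop) :
    Nat.card {c : ConjClasses G // ∃ g : G, ConjClasses.mk g = c ∧ P g} = 1 ↔
      (∃ x, P x) ∧ ∀ x y, P x → P y → IsConj x y := by
  rw [Nat.card_eq_one_iff_exists]
  constructor
  · rintro ⟨⟨c, g, rfl, hg⟩, hc⟩
    refine ⟨⟨g, hg⟩, fun x y hx hy => ?_⟩
    have h1 := hc ⟨ConjClasses.mk x, x, rfl, hx⟩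
    have h2 := hc ⟨ConjClasses.mk y, y, rfl, hy⟩
    rw [← h2, Subtype.ext_iff, ConjClasses.mk_eq_mk_iff_isConj] at h1
    exact h1
  · rintro ⟨⟨x, hx⟩, h⟩
    refine ⟨⟨ConjClasses.mk x, x, rfl, hx⟩, ?_⟩
    rintro ⟨c, y, rfl, hy⟩
    rw [Subtype.ext_iff, ConjClasses.mk_eq_mk_iff_isConj]
    exact h y x hy hx

theorem isConj_of_classes_eq_two [Finite G] (P : G → Prop)
    (h : Nat.card {c : ConjClasses G // ∃ g : G, ConjClasses.mk g = c ∧ P g} = 2) {x y z : G}
    (hx : P x) (hy : P y) (hz : P z) : IsConj x y ∨ IsConj x z ∨ IsConj y z := by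
  by_contra hc
  push Not at hc
  obtain ⟨a, b, -, hab⟩ := Nat.card_eq_two_iff.mp h
  have key : ∀ w, (hw : P w) → (⟨ConjClasses.mk w, w, rfl, hw⟩ :
      {c : ConjClasses G // ∃ g : G, ConjClasses.mk g = c ∧ P g}) = a ∨
      (⟨ConjClasses.mk w, w, rfl, hw⟩ :
      {c : ConjClasses G // ∃ g : G, ConjClasses.mk g = c ∧ P g}) = b := by
    intro w hw
    have : (⟨ConjClasses.mk w, w, rfl, hw⟩ :
      {c : ConjClasses G // ∃ g : G, ConjClasses.mk g = c ∧ P g}) ∈ ({a, b} : Set _) :=
      hab ▸ Set.mem_univ _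
    simpa using this
  have e : ∀ {v w : G} (hv : P v) (hw : P w) {c}, (⟨ConjClasses.mk v, v, rfl, hv⟩ :
      {c : ConjClasses G // ∃ g : G, ConjClasses.mk g = c ∧ P g}) = c →
      (⟨ConjClasses.mk w, w, rfl, hw⟩ :
      {c : ConjClasses G // ∃ g : G, ConjClasses.mk g = c ∧ P g}) = c → IsConj v w := by
    intro v w hv hw c h1 h2
    rw [← h2, Subtype.ext_iff, ConjClasses.mk_eq_mk_iff_isConj] at h1
    exact h1
  rcases key x hx with h1 | h1 <;> rcases key y hy with h2 | h2 <;> rcases key z hz with h3 | h3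
  all_goals first
    | exact hc.1 (e hx hy h1 h2)
    | exact hc.2.1 (e hx hz h1 h3)
    | exact hc.2.2 (e hy hz h2 h3)

/-- In a finite sharply 2-transitive group all derangements are conjugate. -/
theorem isConj_of_sharply_two [Finite G] [Finite Ω] [Nontrivial Ω]
    (h2 : IsMultiplyPretransitive G Ω 2)
    (hs : ∀ g : G, g ≠ 1 → ∀ a b : Ω, a ≠ b → g • a = a → g • b ≠ b) {x y : G}
    (hx : ∀ ω : Ω, x • ω ≠ ω) (hy : ∀ ω : Ω, y • ω ≠ ω) : IsConj x y := by
  classical
  have := Fintype.ofFinite G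
  have htr : IsPretransitive G Ω := isPretransitive_of_is_two_pretransitive
  rw [is_two_pretransitive_iff] at h2
  let D : Finset G := Finset.univ.filter fun g => ∀ ω : Ω, g • ω ≠ ω
  have h1 := sum_card_fixedBy (G := G) (Ω := Ω)
  rw [card_orbits_eq_one, one_mul, Nat.card_eq_fintype_card] at h1
  have h3 : ∀ g : G, Nat.card (fixedBy Ω g) + (if g ∈ D then 1 else 0) =
      1 + if g = 1 then Nat.card Ω - 1 else 0 := by
    intro g
    by_cases hg : g = 1
    · subst hg
      have : (1 : G) ∉ D := by simp [D]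
      have h4 : 1 < Nat.card Ω := Finite.one_lt_card
      simp only [this, if_false, if_true, fixedBy_one_eq_univ, Nat.card_coe_set_eq, Set.ncard_univ]
      omega
    · by_cases hD : g ∈ D
      · simp only [hD, hg, if_true, if_false]
        rw [card_fixedBy_eq_zero (Finset.mem_filter.mp hD).2]
      · simp only [hD, hg, if_false, add_zero]
        have h4 := card_fixedBy_pos (Ω := Ω) (g := g) (by simpa [D] using hD)
        have h5 : Nat.card (fixedBy Ω g) ≤ 1 := by
          rw [Finite.card_le_one_iff_subsingleton]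
          exact ⟨fun a b => Subtype.ext (by_contra fun h => hs g hg a b h a.2 b.2)⟩
        omega
  have h4 := Finset.sum_congr (s₁ := Finset.univ) rfl (fun g _ => h3 g)
  rw [Finset.sum_add_distrib, Finset.sum_add_distrib, h1, Finset.sum_ite_mem, Finset.univ_inter,
    Finset.sum_ite_eq'] at h4
  simp only [Finset.sum_const, smul_eq_mul, mul_one, Finset.card_univ, Finset.mem_univ,
    if_true] at h4
  obtain ⟨a, b, hab⟩ := exists_pair_ne Ω
  let H : Finset G := Finset.univ.filter fun g => g • a = a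
  have h5 : Nat.card Ω - 1 ≤ H.card := by
    have := Fintype.ofFinite Ω
    rw [Nat.card_eq_fintype_card, ← Finset.card_univ, ← Finset.card_erase_of_mem (Finset.mem_univ a)]
    apply Finset.card_le_card_of_surjOn (fun g : G => g • b)
    intro c hc
    obtain ⟨g, hg1, hg2⟩ := h2 hab (Finset.ne_of_mem_erase hc).symm
    exact ⟨g, by simpa [H] using hg1, hg2⟩
  have h6 := Finset.surj_on_of_inj_on_of_card_le (s := H) (t := D) (fun h _ => h * x * h⁻¹)
    (fun h _ => by simpa [D] using conj_derangement hx h) (by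
      intro h k hh hk hhk
      simp only [H, Finset.mem_filter, Finset.mem_univ, true_and] at hh hk
      have h7 : (k⁻¹ * h) • a = a := by rw [mul_smul, hh, inv_smul_eq_iff, hk]
      by_contra hne
      refine hs (k⁻¹ * h) (fun h => hne (inv_mul_eq_one.mp h).symm) a (x • a) (hx a).symm h7 ?_
      have : k⁻¹ * h * x = x * (k⁻¹ * h) := by
        calc k⁻¹ * h * x = k⁻¹ * (h * x * h⁻¹) * h := by group
          _ = x * (k⁻¹ * h) := by rw [hhk]; group
      rw [← mul_smul, this, mul_smul, h7]) (by omega) y (by simpa [D] using hy)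
  obtain ⟨h, -, rfl⟩ := h6
  exact isConj_iff.mpr ⟨h, rfl⟩

/-- A commutative transitive subgroup of a permutation group is regular. -/
theorem regular_of_comm [FaithfulSMul G Ω] (hprim : IsPreprimitive G Ω) {N : Subgroup G}
    (hn : N.Normal) (hN : N ≠ ⊥) (hc : IsMulCommutative N) {x : G} (hx : x ∈ N) {a : Ω}
    (ha : x • a = a) : x = 1 :=
  eq_one_of_comm_of_trans (exists_smul_eq_of_normal hprim hn hN a)
    (fun _ hn => H2.mul_comm_of_mem hc hx hn) ha

theorem stabilizer_eq_bot_of_comm [FaithfulSMul G Ω] (hprim : IsPreprimitive G Ω) {N : Subgroup G}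
    (hn : N.Normal) (hN : N ≠ ⊥) (hc : IsMulCommutative N) (a : Ω) : stabilizer N a = ⊥ := by
  rw [Subgroup.eq_bot_iff_forall]
  intro x hx
  exact Subtype.ext (regular_of_comm hprim hn hN hc x.2 hx)

/-- In an affine group, conjugate translations move a base point within one suborbit. -/
theorem exists_stabilizer_of_isConj [FaithfulSMul G Ω] (hprim : IsPreprimitive G Ω) {N : Subgroup G}
    (hn : N.Normal) (hN : N ≠ ⊥) (hc : IsMulCommutative N) {x y : G} (hy : y ∈ N)
    (h : IsConj x y) (a : Ω) : ∃ h : G, h • a = a ∧ h • x • a = y • a := by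
  obtain ⟨g, rfl⟩ := isConj_iff.mp h
  obtain ⟨n, hnN, hna⟩ := exists_smul_eq_of_normal hprim hn hN (g • a) a
  have h1 : (n * g) • a = a := by rw [mul_smul, hna]
  refine ⟨n * g, h1, ?_⟩
  have h2 := H2.mul_comm_of_mem hc hnN hy
  calc (n * g) • x • a = (n * (g * x * g⁻¹)) • g • a := by simp [mul_smul]
    _ = (g * x * g⁻¹) • a := by rw [h2, mul_smul, hna]

theorem two_trans_of_stabilizer [IsPretransitive G Ω] (a : Ω)
    (h : ∀ b c : Ω, b ≠ a → c ≠ a → ∃ g : G, g • a = a ∧ g • b = c) :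
    IsMultiplyPretransitive G Ω 2 := by
  rw [is_two_pretransitive_iff]
  intro p q r s hpq hrs
  obtain ⟨u, hu⟩ := exists_smul_eq G p a
  obtain ⟨v, hv⟩ := exists_smul_eq G r a
  obtain ⟨g, hg1, hg2⟩ := h (u • q) (v • s) (by rw [← hu]; simpa using hpq.symm)
    (by rw [← hv]; simpa using hrs.symm)
  refine ⟨v⁻¹ * g * u, ?_, ?_⟩
  · rw [mul_smul, mul_smul, hu, hg1, inv_smul_eq_iff, hv]
  · rw [mul_smul, mul_smul, hg2, inv_smul_smul]

theorem nontrivial_group [Nontrivial Ω] [IsPretransitive G Ω] : Nontrivial G := by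
  obtain ⟨a, b, hab⟩ := exists_pair_ne Ω
  obtain ⟨g, hg⟩ := MulAction.exists_smul_eq G a b
  exact ⟨g, 1, fun h => hab (by rw [← hg, h, one_smul])⟩

/-- An element of a factor is not conjugate to a product with two non-trivial components. -/
theorem Factor.not_isConj_mul {N T U : Subgroup G} (hN : MinNormal N) (hc : ¬ IsMulCommutative N)
    (hT : Factor N T) (hcomm : ∀ t ∈ T, ∀ u ∈ U, t * u = u * t) {t t' u : G}
    (ht : t ∈ T) (ht' : t' ∈ T) (ht1 : t' ≠ 1) (hu : u ∈ U) (hu1 : u ≠ 1) (hU : Factor N U) :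
    ¬ IsConj t (t' * u) := by
  intro h
  obtain ⟨g, hg⟩ := isConj_iff.mp h
  have h1 : g * t * g⁻¹ ∈ cj g T := conj_mem_cj ht
  rcases hT.eq_or_comm (hT.conj hN.normal g) with h2 | h2
  · rw [← h2, hg] at h1
    have h3 : u ∈ T := by simpa using T.mul_mem (T.inv_mem ht') h1
    exact hu1 (hU.eq_one_of_comm hN hc hu fun s hs => hcomm u h3 s hs)
  · apply ht1
    refine hT.comp_unique hN hc ht' T.one_mem (c := u) (c' := g * t * g⁻¹)
      (fun s hs => (hcomm s hs u hu).symm) (fun s hs => (h2 s hs _ h1).symm) (by rw [one_mul, hg])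

end Cfsg.Agent.H77
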