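import Cfsg.Agent.H58.Util
import Cfsg.Agent.H56.Mod.U42
import Cfsg.Agent.H3.PresWr

/-! A presentation of `SU₄(2)` and two generators of `SU₃(2)`. -/

set_option autoImplicit false
set_option Elab.async false
set_option maxRecDepth 100000

namespace Cfsg.Agent.H77.G32a

open Cfsg.Agent.H58

noncomputable def tb0 : Nat → Nat := (lf (nat_lit 0x27180009c500027080009c1000271c0009c800022100009c3000261c000988000260c00098400020080009810002204000982000211400098600025180009450001f0c000944000211000094300025080009410002320000947000241c000908000240c000904000240400090200023140009060001e140008c600023080008c10001e200008c70001b100008c30002220000887000201000088300020040008820001d180008850001f140008460001f1000084300018040008420001c080008410001b20000847000201c0008080001c140008060001d040007c200015080007c10001a200007c70001e08000781000161000078300018180007450001d100007430001504000742000192000074700015140007060001c0c0007040001808000701000171c0007080001a100006c300016200006c700014180006c500011140006c600012080006c100014200006870001a18000685000190400068200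0190c00064400013200006470001914000646000150c0006040000b100006030000d20000607000170c0005c4000121c0005c800017180005c500016040005c2000141000058300016140005860000b0c0005440000c2000054700011180005050001304000502000130c0004c40000e180004c50000d140004c600012100004830000d080004810000918000485000110c00044400011200004470000e040004420000e080002010000f040001c20000f08000401000100c000404000101c00040800010140004060000f140003c60000f200003c70000e0c0003c40000d180003850000e1c0003880000a200003470000c0c0003440000c1400030600009200003070000b180002c50000b080002c100005200002c70000a14000286000090c00028400008180002450000820000207000070c00020400007140001c6000071c0001c8000061c000188000060400018200005140001860000420000147000050800014100004040001020000314000106000031c0000c800003080000c1000020c0000840000204000082000011c000088000011000004300001080000410000000000000000000000000000000000000000000000000000000000000000000000000000000000000000000000000000000000000000000000000000000000000000000000000000000000000000000000000000000000000000000000000000000000000000000000000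000000000000000000000000000000000000000000000000000000000000000000000000001800000500000100000030000008000001000271000080300026140007c60002520000787000241400078600023100006830002218000605000212000058700020140005460001f200005070001e100005030001d200004c70001c1c0004880001b080003410001a0400030200019080003010001820000287000170400028200016080002810001520000247000140400024200013080002410001218000205000110400020200010080001c10000f0c0001840000e100001830000d0c0001440000c100001430000b200001070000a0c0001040000910000103000080c0000c400007100000c30000614000086000051800008500004140000460000318000045000021c0000080000120000007))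
noncomputable def rk0 : Nat → Nat := (lf (nat_lit 0x27000260002500024000230002200021000200001f0001e0001d0001c0001b0001a000190001800017000160001500014000130001200011000100000f0000e0000d0000c0000b0000a00009000080000700006000050000400003000020000100000))
noncomputable def st0 : Nat → Nat := (nd (nat_lit 2) (nd (nat_lit 1) (lf (nat_lit 0x508000230001400600027c000500100009f00015e0000c4000580000a00500013a0000700004e0180009d0000400002880c0004d80009c020001360002a4000140000a80001340a0002640000d00009e030001320000780001080001f0001300a00025c0000d8000960300012a000054080004a8000a100004a0002800004a028000930001280400024c0004e80002000013c000250140004980001500012406000244000490100009100013200006c0004c0000900500011e000038000470180008f00012e00011c0004b00008e0500011a000040000460180008b0001180400022c00048800040000124000230140004480000b00011006000224000078000880300010e000220080004380008b00007200022800043028000850000100002100c000428000370001080600020c0001b800082030001020002080800040800030000100060001fc0001800007e03)) (lf (nat_lit 0x3340007380006b0001cc00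0330140006580004a0001ac06000324000230000c80300019200014000067018000c70001c60003800c0006280003d0200018a00037c000300000de0001880a00030c0001c8000190300018200011400060018000bf000180040002fc0006b8000590001b0000308140005e80003e000178060002f40006a8000d0030001760000cc080005d80003c000180060002e40005d010000b900019a000130000660000b80500016e0000d800007018000b500000a0000080c0005a8000360000720000dc0005a028000b30000100000680c0005880002f0200016200030c000238000c20001600a0002bc000160000ae0300015a00000008000150000ac00000a00000800007028000aa00000004000000000020000020001520002ec000618000c70000f20001dc0003a8000c40000800000f80005e00002c00005c0002a8000030000091300014e0002e40001d8000b800014c0a000294000130000a40300014600008800051018000a300016a0000d80005a0000a205))) (nd (nat_lit 3) (lf (nat_lit 0x3ec00024000063000208000014140007c80004200004a00009c00008828000f700004e00003c0c0007a800019020001ea0001300001480002a0001f00a0003cc000240000f6030001e200041c00081018000ef00008600007c0c00076800021020001da0001180003c0000470001d80a0003ac00009810000eb00008c0003b80c000748000ff0001f80600039c0000f810000e700008000010c000208000e6050001ca0000d408000728000420000cc0001d400077028000e300007a0003880c000708000f50001e00600037c0000d810000df0001e60001cc000388000ec050001ba0000ec0006e018000db0000740000740c0006c80001f020001b20003d40003d0000f60001b40a00035c0002a0000e0030001aa0000bc00014818000d300009a0000e40c0006880002f020001a20001480006e018000cf00009e0003380c000668000ce02))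 (lf (nat_lit 0x4740009580007100024c000014140008d80000900000e0000200008d028001190000700004600c0008b8000270200022e0000f00002f80003d00022c0a00045400015800028000056000014140008980003600023c06000444000190000230300021e00008c0800087800110000012000444000870280010d0002360004600c0008580003200022406000424000170001080300020e000034080008380000b00000c00002c0000282800105000222000104000058000030500020600009c00081018001010000020400040400021800037000074000428140007f80004200008a00010c0007f028000fd0000780004180c0007d80003102))))
noncomputable def cl0 : Nat → Nat := (nd (nat_lit 2) (nd (nat_lit 1) (lf (nat_lit 0x2c2000378000700000e20001cc000594000ba0000e40001da0005a4000740000eb0001dc0005bc000bc00016b0001ea0005cc000780000f20001f00003d8000bb80017c0001fe0003f4000bd8000fa0002620004bc0009680017f)) (lf (nat_lit 0x1680005880005f0000c1000160000308000628000c6000296000598000520000c900029e000328000660000cf0001a6000260000688000d50002aa0005b00006b0001510002b60003600006d8001570001660005c0000ae8000dd))) (nd (nat_lit 3) (lf (nat_lit 0x2a40002300004880006e0001240002540004b00013f0000c80002180003400009b0002b00005140004e80014300013c0002800005180014700015200029c0005580008e0002bc0002b00003b0000af00016e0002e00005e0000ba))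 (nd (nat_lit 4) (lf (nat_lit 0xb20000a00002400005b0000ba00017c0001c0001370000ac00018c000308000670000da0001a80002a0001480000f20001c40003a8000730002980004ec0003e80007b0000fc000200000420000830000980002240009e80008b)) (lf (nat_lit 0x2e00006c0000a8000180000420000780009a00001c00005a0000ac0001380002f0000680000c80009c0000300000760000fc0001b00003d00004400010c0002380004100009e00012c000120000510000880004cc000a0000052)))))
def iv : Nat := 2005859300282496

def rels : List (List Nat) := [[1, 1, 1],
  [3, 3, 3],
  [5, 5, 5],
  [7, 7, 7],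
  [1, 3, 1, 4, 2, 4],
  [3, 5, 3, 6, 4, 6],
  [5, 7, 5, 8, 6, 8],
  [1, 5, 2, 6],
  [1, 7, 2, 8],
  [3, 7, 4, 8],
  [1, 3, 5, 7, 1, 3, 5, 7, 1, 3, 5, 7, 1, 3, 5, 7, 1, 3, 5, 7]]

noncomputable def tbl : Nat → Nat := (nd (nat_lit 1) tb0 (lf (nat_lit 0)))
noncomputable def rnk : Nat → Nat := (nd (nat_lit 1) rk0 (lf (nat_lit 0)))
noncomputable def str : Nat → Nat := (nd (nat_lit 4) st0 (lf (nat_lit 0)))
noncomputable def clo : Nat → Nat := (nd (nat_lit 5) cl0 (lf (nat_lit 0)))
def tree : ST := (ST.node (ST.node (ST.node (ST.node (ST.node (ST.node ST.nil (nat_lit 1) (nat_lit 0) (nat_lit 0) ST.nil) (nat_lit 266305) (nat_lit 1) (nat_lit 2) (ST.node ST.nil (nat_lit 270466) (nat_lit 2) (nat_lit 2) ST.nil)) (nat_lit 274627) (nat_lit 3) (nat_lit 2) (ST.node (ST.node ST.nil (nat_lit 278788) (nat_lit 4) (nat_lit 2) ST.nil) (nat_lit 282949) (nat_lit 5) (nat_lit 2) ST.nil)) (nat_lit 287110) (nat_lit 6) (nat_lit 2) (ST.node (ST.node (ST.node ST.nil (nat_lit 291271) (nat_lit 7) (nat_lit 2) ST.nil) (nat_lit 295432) (nat_lit 8) (nat_lit 2) ST.nil) (nat_lit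 17064069) (nat_lit 15) (nat_lit 1) (ST.node (ST.node ST.nil (nat_lit 17068168) (nat_lit 18) (nat_lit 2) ST.nil) (nat_lit 17072263) (nat_lit 17) (nat_lit 1) ST.nil))) (nat_lit 17322054) (nat_lit 15) (nat_lit 3) (ST.node (ST.node (ST.node (ST.node ST.nil (nat_lit 17326149) (nat_lit 16) (nat_lit 0) ST.nil) (nat_lit 17330248) (nat_lit 17) (nat_lit 3) ST.nil) (nat_lit 17334343) (nat_lit 18) (nat_lit 0) (ST.node (ST.node ST.nil (nat_lit 17596679) (nat_lit 19) (nat_lit 1) ST.nil) (nat_lit 17854664) (nat_lit 19) (nat_lit 3) ST.nil)) (nat_lit 17858759) (nat_lit 20) (nat_lit 0) (ST.node (ST.node (ST.node ST.nil (nat_lit 18092418) (nat_lit 15) (nat_lit 2) ST.nil) (nat_lit 18096513) (nat_lit 16) (nat_lit 1) ST.nil) (nat_lit 18354498) (nat_lit 16) (nat_lit 3) (ST.node (ST.node ST.nil (nat_lit 18358593) (nat_lit 15) (nat_lit 0) ST.nil) (nat_lit 18616834) (nat_lit 17) (nat_lit 2) ST.nil)))) (nat_lit 18620929) (nat_lit 18) (nat_lit 1) (ST.node (ST.node (ST.node (ST.node (ST.node ST.nil (nat_lit 18625028) (nat_lit 19) (nat_lit 2) ST.nil) (nat_lit 18878914)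 (nat_lit 18) (nat_lit 3) ST.nil) (nat_lit 18883009) (nat_lit 17) (nat_lit 0) (ST.node (ST.node ST.nil (nat_lit 18887108) (nat_lit 20) (nat_lit 3) ST.nil) (nat_lit 18891203) (nat_lit 19) (nat_lit 0) ST.nil)) (nat_lit 69843828868) (nat_lit 9) (nat_lit 3) (ST.node (ST.node (ST.node ST.nil (nat_lit 69860868163) (nat_lit 9) (nat_lit 1) ST.nil) (nat_lit 70934343748) (nat_lit 9) (nat_lit 5) ST.nil) (nat_lit 71975313601) (nat_lit 10) (nat_lit 1) (ST.node (ST.node ST.nil (nat_lit 72025399558) (nat_lit 11) (nat_lit 3) ST.nil) (nat_lit 72042438853) (nat_lit 11) (nat_lit 1) ST.nil))) (nat_lit 73049051329) (nat_lit 9) (nat_lit 0) (ST.node (ST.node (ST.node (ST.node ST.nil (nat_lit 73115914438) (nat_lit 11) (nat_lit 5) ST.nil) (nat_lit 74206970248) (nat_lit 13) (nat_lit 3) ST.nil) (nat_lit 74224009543) (nat_lit 13) (nat_lit 1) (ST.node (ST.node ST.nil (nat_lit 75213582724) (nat_lit 11) (nat_lit 4) ST.nil) (nat_lit 75230622019) (nat_lit 11) (nat_lit 0) ST.nil)) (nat_lit 75280707976) (nat_lit 14) (nat_lit 4) (ST.node (ST.node (ST.node ST.nil (nat_lit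 75297485128) (nat_lit 13) (nat_lit 5) ST.nil) (nat_lit 77395153414) (nat_lit 13) (nat_lit 4) ST.nil) (nat_lit 77411930566) (nat_lit 14) (nat_lit 5) (ST.node (ST.node ST.nil (nat_lit 77412192709) (nat_lit 13) (nat_lit 0) ST.nil) (nat_lit 1476250200390754712779555781950066881) (nat_lit 21) (nat_lit 16) ST.nil)))))

theorem d0 : sumPow (grd 39 (defn tbl rnk (okPair iv))) 6 0 = 0 := by decide +kernel
theorem s0 : sumPow (grd 4 (chunk tbl (okRule iv tree) str 10)) 3 0 = 0 := by decide +kernel
theorem c0 : sumPow (clchunk tbl clo 895 2559 4 20282411719271877267546645200897) 10 0 = 0 := by decide +kernel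

noncomputable def C : Cert := ⟨tbl, rnk, str, clo, tree, 39, 25, 10, 4, [1, 3, 5]⟩

theorem good : C.Good rels iv :=
  ⟨by decide, by decide +kernel,
   all_lt_of_gblocks _ 6 39 1 (by decide) (blocks_cons (blocks_nil _) d0),
   by decide +kernel,
   all_lt_of_gblocks _ 3 4 1 (by decide) (blocks_cons (blocks_nil _) s0)⟩

theorem closed : C.Closed [1, 3, 5, 7] 39 :=
  ⟨by decide, by decide, 895, 2559, 4, 20282411719271877267546645200897, by decide, by decide, by decide +kernel,
    all_lt_of_blocks _ 10 5 1 (by decide) (blocks_cons (blocks_nil _) c0)⟩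

theorem relIndex_le {G : Type*} [Group G] {el : ℕ → G} (R : RuleOK el rels iv) (H : Subgroup G)
    (hfix : ∀ x ∈ ([1, 3, 5] : List ℕ), el x ∈ H) :
    H.relIndex (Subgroup.closure (el '' {x | x ∈ ([1, 3, 5, 7] : List ℕ)})) ≠ 0 ∧
      H.relIndex (Subgroup.closure (el '' {x | x ∈ ([1, 3, 5, 7] : List ℕ)})) ≤ 40 :=
  Cert.relIndex_le good closed R H hfix

end Cfsg.Agent.H77.G32a

namespace Cfsg.Agent.H77.G32b

open Cfsg.Agent.H58

noncomputable def tb0 : Nat → Nat := (lf (nat_lit 0x1a100006830001a140006860001708000681000190c0006440001904000642000181400064600013140006060001804000602000170c00060400017140005c600016080005c10001614000586000150c000584000110c000544000150400054200014140005460001410000503000140800050100013080004c10000e100004c300011040004820000b080004810000d180004850000b040004420000c18000445000100800040100009100004030000f0c0003c40000f180003c50000e040003c20000d100003830000e140003860000a180003450000c040003420000c0c00030400009180003050000b100002c300005180002c50000a0c0002840000904000282000081000024300008180002050000704000202000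070c0001c400007140001c60000614000186000050c0001840000418000145000030c00010400003140000c60000204000082000011400008600001080000410000000000000000000000000000000000000000000000000000000001000000300000080000010001a0800058100019140004c6000180c0004840001710000483000160c0004440001514000406000141800040500013100003430001218000285000111800024500010100002030000f040001820000e080001810000d040001420000c080001410000b180001050000a04000102000090800010100008040000c200007080000c1000060c0000840000510000083000040c000044000031000004300002140000060000118000005))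
noncomputable def rk0 : Nat → Nat := (lf (nat_lit 0x1a000190001800017000160001500014000130001200011000100000f0000e0000d0000c0000b0000a00009000080000700006000050000400003000020000100000))
noncomputable def st0 : Nat → Nat := (nd (nat_lit 1) (lf (nat_lit 0x16c00035800068030000b200004c080002c8000690000c80600015c0000a8100005700004000008c00010800056050000aa00006c080002a8000670000580001980002a028000530000420001480c00028800052020000a2000184000138000620000a40a00013c0000d00004e0300009e0000700002a0180004d00009c040001340002d80001e0000b400013014000258000160000a00600012c0000b00001900002e0001281400024800013020000920001540000d8000540000900a00011c00024010000470000a2000058000290000480500008e00003c000230180004500008c040001140002680001100009800011014000218000080000840600010c0002580001700009400010814000208000420200008200011c000090000480000840a000104000210100004100008a00003c000220000400500008200003c000200180003f000080040000fc0000500003e03)) (lf (nat_lit 0x750000fa00009c0003d000003050000e6000048000390180007100001e040001c40003e8000250000e400000c140003780001b0000dc060001b4000008100006d00003c0000bc00018000019050000d6000060000370000050000020a0001a400035010000690000e60000e000039000068050000ce000048000028000070000060a00019c0000c00002c0000320001981400032800001020000ca0001bc0001b8000350000d80a00018c0000a800062030000c200018808000308000690000600001a0000300280005f00001c0001780c0002f80001c00003e0000740002f0280005d00002a040001740001200005e03)))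
noncomputable def cl0 : Nat → Nat := (nd (nat_lit 2) (nd (nat_lit 1) (lf (nat_lit 0xd40001b0000370000a50001680001c0000548000720000ea0002bc0005c0000ab0001660001d80003c00007a00016e0002f00003f8000bb0000f800022c000448000bf)) (lf (nat_lit 0x144000130000278000500000a60001500005300009b0000ae0001600002d00005d00008800017c000308000ac0000c40002740003200006700013e0002c000050800069))) (nd (nat_lit 3) (lf (nat_lit 0x560000980001400008d0001280000b00001900002e00012c0000e40001b8000340000760000f40001100004100012600010c0001f00003000008e00012400025800099)) (lf (nat_lit 0x1b00002e0000600000f00001c00011c00009000048000020))))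
def iv : Nat := 2005859300282496

def rels : List (List Nat) := [[1, 1, 1],
  [3, 3, 3],
  [5, 5, 5],
  [7, 7, 7],
  [1, 3, 1, 4, 2, 4],
  [3, 5, 3, 6, 4, 6],
  [5, 7, 5, 8, 6, 8],
  [1, 5, 2, 6],
  [1, 7, 2, 8],
  [3, 7, 4, 8],
  [1, 3, 5, 7, 1, 3, 5, 7, 1, 3, 5, 7, 1, 3, 5, 7, 1, 3, 5, 7]]

noncomputable def tbl : Nat → Nat := (nd (nat_lit 1) tb0 (lf (nat_lit 0)))
noncomputable def rnk : Nat → Nat := (nd (nat_lit 1) rk0 (lf (nat_lit 0)))
noncomputable def str : Nat → Nat := (nd (nat_lit 2) st0 (lf (nat_lit 0)))
noncomputable def clo : Nat → Nat := (nd (nat_lit 4) cl0 (lf (nat_lit 0)))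
def tree : ST := (ST.node (ST.node (ST.node (ST.node (ST.node ST.nil (nat_lit 1) (nat_lit 0) (nat_lit 0) ST.nil) (nat_lit 266305) (nat_lit 1) (nat_lit 2) ST.nil) (nat_lit 270466) (nat_lit 2) (nat_lit 2) (ST.node (ST.node ST.nil (nat_lit 274627) (nat_lit 3) (nat_lit 2) ST.nil) (nat_lit 278788) (nat_lit 4) (nat_lit 2) ST.nil)) (nat_lit 282949) (nat_lit 5) (nat_lit 2) (ST.node (ST.node (ST.node ST.nil (nat_lit 287110) (nat_lit 6) (nat_lit 2) ST.nil) (nat_lit 17064069) (nat_lit 15) (nat_lit 1) ST.nil) (nat_lit 17322054) (nat_lit 15) (nat_lit 3) (ST.node (ST.node ST.nil (nat_lit 17326149) (nat_lit 16) (nat_lit 0) ST.nil) (nat_lit 18092418) (nat_lit 15) (nat_lit 2) ST.nil))) (nat_lit 18354498) (nat_lit 16) (nat_lit 3) (ST.node (ST.node (ST.node (ST.node ST.nil (nat_lit 18358593) (nat_lit 15) (nat_lit 0) ST.nil) (nat_lit 69843828868) (nat_lit 9) (nat_lit 3) ST.nil) (nat_lit 69860868163) (nat_lit 9) (nat_lit 1) (ST.node (ST.node ST.nil (nat_lit 70934343748) (nat_lit 9) (nat_lit 5) ST.nil) (nat_lit 72025399558) (nat_lit 11) (nat_lit 3) ST.nil))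 (nat_lit 72042438853) (nat_lit 11) (nat_lit 1) (ST.node (ST.node (ST.node ST.nil (nat_lit 73032012034) (nat_lit 9) (nat_lit 4) ST.nil) (nat_lit 73049051329) (nat_lit 9) (nat_lit 0) ST.nil) (nat_lit 73115914438) (nat_lit 11) (nat_lit 5) (ST.node (ST.node ST.nil (nat_lit 75213582724) (nat_lit 11) (nat_lit 4) ST.nil) (nat_lit 75230622019) (nat_lit 11) (nat_lit 0) ST.nil))))

theorem d0 : sumPow (grd 26 (defn tbl rnk (okPair iv))) 6 0 = 0 := by decide +kernel
theorem s0 : sumPow (grd 2 (chunk tbl (okRule iv tree) str 9)) 3 0 = 0 := by decide +kernel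
theorem c0 : sumPow (clchunk tbl clo 703 1727 3 302231477421655631855617) 11 0 = 0 := by decide +kernel

noncomputable def C : Cert := ⟨tbl, rnk, str, clo, tree, 26, 6, 9, 2, [1, 3]⟩

theorem good : C.Good rels iv :=
  ⟨by decide, by decide +kernel,
   all_lt_of_gblocks _ 6 26 1 (by decide) (blocks_cons (blocks_nil _) d0),
   by decide +kernel,
   all_lt_of_gblocks _ 3 2 1 (by decide) (blocks_cons (blocks_nil _) s0)⟩

theorem closed : C.Closed [1, 3, 5] 26 :=
  ⟨by decide, by decide, 703, 1727, 3, 302231477421655631855617, by decide, by decide, by decide +kernel,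
    all_lt_of_blocks _ 11 4 1 (by decide) (blocks_cons (blocks_nil _) c0)⟩

theorem relIndex_le {G : Type*} [Group G] {el : ℕ → G} (R : RuleOK el rels iv) (H : Subgroup G)
    (hfix : ∀ x ∈ ([1, 3] : List ℕ), el x ∈ H) :
    H.relIndex (Subgroup.closure (el '' {x | x ∈ ([1, 3, 5] : List ℕ)})) ≠ 0 ∧
      H.relIndex (Subgroup.closure (el '' {x | x ∈ ([1, 3, 5] : List ℕ)})) ≤ 27 :=
  Cert.relIndex_le good closed R H hfix

end Cfsg.Agent.H77.G32b

namespace Cfsg.Agent.H77.G32c

open Cfsg.Agent.H58

noncomputable def tb0 : Nat → Nat := (lf (nat_lit 0x7080001c100005100001c3000060c000184000050400018200004100001430000304000102000030c0000c4000010c000084000000000000000000000000000000000000000000000000000000000000000000000000000000000000000000000000000000000000000000000000000000000000000000000000000000000000000000000000000000000000000000000000000000000000000000000000000000000000000000000000000000000000000000000000000000000000000000000000000000000000000000000000000000800000100007100001030000604000082000050800008100004040000420000308000041000020c0000040000110000003))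
noncomputable def rk0 : Nat → Nat := (lf (nat_lit 0x700006000050000400003000020000100000))
noncomputable def st0 : Nat → Nat := (lf (nat_lit 0x82000020000058000090000800a0000fc000028100003f00008e0000ec0002300003e0500007a0000f8080001e80004300006c0001100001f0280003d00007c040000f4000208000330000800000f0140001e80003e02))
noncomputable def cl0 : Nat → Nat := (lf (nat_lit 0x620000cc0003a00003400006c0000e40003c0000730000740000f00003b80007c0000f60000f80003880007f))
def iv : Nat := 2005859300282496

def rels : List (List Nat) := [[1, 1, 1],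
  [3, 3, 3],
  [5, 5, 5],
  [7, 7, 7],
  [1, 3, 1, 4, 2, 4],
  [3, 5, 3, 6, 4, 6],
  [5, 7, 5, 8, 6, 8],
  [1, 5, 2, 6],
  [1, 7, 2, 8],
  [3, 7, 4, 8],
  [1, 3, 5, 7, 1, 3, 5, 7, 1, 3, 5, 7, 1, 3, 5, 7, 1, 3, 5, 7]]

noncomputable def tbl : Nat → Nat := (nd (nat_lit 1) tb0 (lf (nat_lit 0)))
noncomputable def rnk : Nat → Nat := (nd (nat_lit 1) rk0 (lf (nat_lit 0)))
noncomputable def str : Nat → Nat := (nd (nat_lit 1) st0 (lf (nat_lit 0)))
noncomputable def clo : Nat → Nat := (nd (nat_lit 1) cl0 (lf (nat_lit 0)))
def tree : ST := (ST.node (ST.node (ST.node (ST.node ST.nil (nat_lit 1) (nat_lit 0) (nat_lit 0) ST.nil) (nat_lit 270466) (nat_lit 2) (nat_lit 2) ST.nil) (nat_lit 274627) (nat_lit 3) (nat_lit 2) (ST.node ST.nil (nat_lit 278788) (nat_lit 4) (nat_lit 2) ST.nil)) (nat_lit 69843828868) (nat_lit 9) (nat_lit 3) (ST.node (ST.node ST.nil (nat_lit 69860868163) (nat_lit 9) (nat_lit 1) ST.nil) (nat_lit 70934343748) (nat_lit 9) (nat_lit 5) (ST.node ST.nil (nat_lit 73049051329) (nat_lit 9) (nat_lit 0) ST.nil)))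

theorem d0 : sumPow (grd 7 (defn tbl rnk (okPair iv))) 6 0 = 0 := by decide +kernel
theorem s0 : sumPow (grd 1 (chunk tbl (okRule iv tree) str 9)) 3 0 = 0 := by decide +kernel
theorem c0 : sumPow (clchunk tbl clo 639 511 2 4503599828697089) 11 0 = 0 := by decide +kernel

noncomputable def C : Cert := ⟨tbl, rnk, str, clo, tree, 7, 25, 9, 1, [1]⟩

theorem good : C.Good rels iv :=
  ⟨by decide, by decide +kernel,
   all_lt_of_gblocks _ 6 7 1 (by decide) (blocks_cons (blocks_nil _) d0),
   by decide +kernel,
   all_lt_of_gblocks _ 3 1 1 (by decide) (blocks_cons (blocks_nil _) s0)⟩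

theorem closed : C.Closed [1, 3] 7 :=
  ⟨by decide, by decide, 639, 511, 2, 4503599828697089, by decide, by decide, by decide +kernel,
    all_lt_of_blocks _ 11 1 1 (by decide) (blocks_cons (blocks_nil _) c0)⟩

theorem relIndex_le {G : Type*} [Group G] {el : ℕ → G} (R : RuleOK el rels iv) (H : Subgroup G)
    (hfix : ∀ x ∈ ([1] : List ℕ), el x ∈ H) :
    H.relIndex (Subgroup.closure (el '' {x | x ∈ ([1, 3] : List ℕ)})) ≠ 0 ∧
      H.relIndex (Subgroup.closure (el '' {x | x ∈ ([1, 3] : List ℕ)})) ≤ 8 :=
  Cert.relIndex_le good closed R H hfix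

end Cfsg.Agent.H77.G32c

namespace Cfsg.Agent.H77.G32d

open Cfsg.Agent.H58

noncomputable def tb0 : Nat → Nat := (lf (nat_lit 0x10400008200000000000000000000000000000000000000000000000000000000000000000000000000000000000000000000000000000000000000000000000000000000000000000000000000000000000000000000000000000000000000000000000000000000000000000000000000000000000000000000000000000000000000000000000000000000000000000000000000000000000000000000000000000000000000000000000000000000000000000000000000000000000000000000000000000000002040000020000108000001))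
noncomputable def rk0 : Nat → Nat := (lf (nat_lit 0x20000100000))
noncomputable def st0 : Nat → Nat := (lf (nat_lit 0x1e80003e02))
noncomputable def cl0 : Nat → Nat := (lf (nat_lit 0x1f00001f00007f))
def iv : Nat := 2005859300282496

def rels : List (List Nat) := [[1, 1, 1],
  [3, 3, 3],
  [5, 5, 5],
  [7, 7, 7],
  [1, 3, 1, 4, 2, 4],
  [3, 5, 3, 6, 4, 6],
  [5, 7, 5, 8, 6, 8],
  [1, 5, 2, 6],
  [1, 7, 2, 8],
  [3, 7, 4, 8],
  [1, 3, 5, 7, 1, 3, 5, 7, 1, 3, 5, 7, 1, 3, 5, 7, 1, 3, 5, 7]]

noncomputable def tbl : Nat → Nat := (nd (nat_lit 1) tb0 (lf (nat_lit 0)))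
noncomputable def rnk : Nat → Nat := (nd (nat_lit 1) rk0 (lf (nat_lit 0)))
noncomputable def str : Nat → Nat := (nd (nat_lit 1) st0 (lf (nat_lit 0)))
noncomputable def clo : Nat → Nat := (nd (nat_lit 1) cl0 (lf (nat_lit 0)))
def tree : ST := (ST.node (ST.node ST.nil (nat_lit 1) (nat_lit 0) (nat_lit 0) ST.nil) (nat_lit 270466) (nat_lit 2) (nat_lit 2) ST.nil)

theorem d0 : sumPow (grd 2 (defn tbl rnk (okPair iv))) 6 0 = 0 := by decide +kernel
theorem s0 : sumPow (grd 1 (chunk tbl (okRule iv tree) str 9)) 3 0 = 0 := by decide +kernel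
theorem c0 : sumPow (clchunk tbl clo 639 191 1 67108865) 12 0 = 0 := by decide +kernel

noncomputable def C : Cert := ⟨tbl, rnk, str, clo, tree, 2, 30, 9, 1, []⟩

theorem good : C.Good rels iv :=
  ⟨by decide, by decide +kernel,
   all_lt_of_gblocks _ 6 2 1 (by decide) (blocks_cons (blocks_nil _) d0),
   by decide +kernel,
   all_lt_of_gblocks _ 3 1 1 (by decide) (blocks_cons (blocks_nil _) s0)⟩

theorem closed : C.Closed [1] 2 :=
  ⟨by decide, by decide, 639, 191, 1, 67108865, by decide, by decide, by decide +kernel,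
    all_lt_of_blocks _ 12 1 1 (by decide) (blocks_cons (blocks_nil _) c0)⟩

theorem relIndex_le {G : Type*} [Group G] {el : ℕ → G} (R : RuleOK el rels iv) (H : Subgroup G)
    (hfix : ∀ x ∈ ([] : List ℕ), el x ∈ H) :
    H.relIndex (Subgroup.closure (el '' {x | x ∈ ([1] : List ℕ)})) ≠ 0 ∧
      H.relIndex (Subgroup.closure (el '' {x | x ∈ ([1] : List ℕ)})) ≤ 3 :=
  Cert.relIndex_le good closed R H hfix

end Cfsg.Agent.H77.G32d

namespace Cfsg.Agent.H77.SU32

open H14 H56

def VT : ℕ := nat_lit 0x328894463bc8ec2a8c786344e43e1ccd2c7512705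
def R : BT := (.node (nat_lit 24) (.node (nat_lit 13) (.node (nat_lit 9) (.node (nat_lit 6) (.leaf (nat_lit 0)) (.node (nat_lit 7) (.leaf (nat_lit 22)) (.leaf (nat_lit 4)))) (.node (nat_lit 10) (.leaf (nat_lit 24)) (.node (nat_lit 11) (.leaf (nat_lit 17)) (.leaf (nat_lit 5))))) (.node (nat_lit 17) (.node (nat_lit 14) (.leaf (nat_lit 6)) (.node (nat_lit 15) (.leaf (nat_lit 21)) (.leaf (nat_lit 9)))) (.node (nat_lit 19) (.node (nat_lit 18) (.leaf (nat_lit 23)) (.leaf (nat_lit 2))) (.node (nat_lit 20) (.leaf (nat_lit 11)) (.leaf (nat_lit 3)))))) (.node (nat_lit 44) (.node (nat_lit 34) (.node (nat_lit 28) (.leaf (nat_lit 13)) (.node (nat_lit 33) (.leaf (nat_lit 1)) (.leaf (nat_lit 8)))) (.node (nat_lit 36) (.node (nat_lit 35) (.leaf (nat_lit 25)) (.leaf (nat_lit 19))) (.node (nat_lit 40) (.leaf (nat_lit 10)) (.leaf (nat_lit 16))))) (.node (nat_lit 51) (.node (nat_lit 49) (.leaf (nat_lit 18)) (.node (nat_lit 50) (.leaf (nat_lit 15)) (.leaf (nat_lit 26)))) (.node (nat_lit 56) (.node (nat_lit 52) (.leaf (nat_lit 7)) (.leaf (nat_lit 12)))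 (.node (nat_lit 60) (.leaf (nat_lit 14)) (.leaf (nat_lit 20)))))))
def gs : List (ℕ × ℕ) := [(nat_lit 0x3e9af, nat_lit 0x373abc565c3d56ad262941cc3812831061), (nat_lit 0x1bfe7, nat_lit 0x4b5843ab935277b2603645ed5a82439402)]
def gens : List ℕ := [nat_lit 0x373abc565c3d56ad262941cc3812831061, nat_lit 0x4b5843ab935277b2603645ed5a82439402]
def certL0 : Lev := ⟨nat_lit 0, nat_lit 0x7ffffff, (.node (nat_lit 13) (.node (nat_lit 6) (.node (nat_lit 3) (.node (nat_lit 1) (.leaf (nat_lit 0x6b38bdab49ca307b9ac5a928398a418820)) (.node (nat_lit 2) (.leaf (nat_lit 0x4b5843ab935277b2603645ed5a82439402)) (.leaf (nat_lit 0x669883eb28e94d4d90b399d71cc44600a1)))) (.node (nat_lit 4) (.leaf (nat_lit 0x4f2dbaa49d5611597047da82385cc020c3)) (.node (nat_lit 5) (.leaf (nat_lit 0x6711412bacafa219ac5172e78e80462c7)) (.leaf (nat_lit 0x52586a6ba564c873ee71ced06440458445))))) (.node (nat_lit 9) (.node (nat_lit 7) (.leaf (nat_lit 0x373abc565c3d56ad262941cc3812831061)) (.node (nat_lit 8) (.leaf (nat_lit 0x652d8ae5584ed8a284f384b70690c20dc6)) (.leaf (nat_lit 0x4675168866aa059642e4de807a178b30e3))))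 (.node (nat_lit 11) (.node (nat_lit 10) (.leaf (nat_lit 0x624a6a1cfb8d33cda90a980462f4111cb1)) (.leaf (nat_lit 0x64bab556f5361374592382973608810523))) (.node (nat_lit 12) (.leaf (nat_lit 0x26adc5253b64222aee7069512406c7990e)) (.leaf (nat_lit 0x566d116590a75755220241787d8cc3b868)))))) (.node (nat_lit 20) (.node (nat_lit 16) (.node (nat_lit 14) (.leaf (nat_lit 0x59af66043d45545e4092ddc6912b3820e1)) (.node (nat_lit 15) (.leaf (nat_lit 0x2a576cf36a55061830472741609e72c22b)) (.leaf (nat_lit 0x52e53b4cf48753055ca1e170cb25614488)))) (.node (nat_lit 18) (.node (nat_lit 17) (.leaf (nat_lit 0x41f79e3312ad8030748a39a3112a74d952)) (.leaf (nat_lit 0x15fa9b96d8640ca56e7362361282890c89))) (.node (nat_lit 19) (.leaf (nat_lit 0x3af43e8722830d33d310ceaaca17065844)) (.leaf (nat_lit 0x3dba65179017178bac612ab3940683a424))))) (.node (nat_lit 23) (.node (nat_lit 21) (.leaf (nat_lit 0x5e5469860c3a69ae941ca1e7616d089162)) (.node (nat_lit 22) (.leaf (nat_lit 0x5ea9c04036975494ec6c896723951831e8)) (.leaf (nat_lit 0x5de5980c1d530e5b603cb2a71263652244)))) (.node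 (nat_lit 25) (.node (nat_lit 24) (.leaf (nat_lit 0x2a3506493419a2d50b6742414dcf87ac6c)) (.leaf (nat_lit 0x69a065e2eb0a8a2d5f35e06891f2909890))) (.node (nat_lit 26) (.leaf (nat_lit 0x2c1648cad0d5ec5670445c5a8d206938f3)) (.leaf (nat_lit 0x1b6628b57aef810f488d329905c624e07)))))))⟩
def certC0 : LevCert := ⟨certL0,
    [(nat_lit 6, nat_lit 0), (nat_lit 1, nat_lit 1), (nat_lit 3, nat_lit 0), (nat_lit 19, nat_lit 1), (nat_lit 5, nat_lit 1), (nat_lit 12, nat_lit 1), (nat_lit 13, nat_lit 0), (nat_lit 17, nat_lit 1), (nat_lit 20, nat_lit 0), (nat_lit 2, nat_lit 1), (nat_lit 8, nat_lit 0), (nat_lit 11, nat_lit 1), (nat_lit 26, nat_lit 0), (nat_lit 22, nat_lit 0), (nat_lit 10, nat_lit 1), (nat_lit 14, nat_lit 0), (nat_lit 18, nat_lit 1), (nat_lit 4, nat_lit 0), (nat_lit 23, nat_lit 1), (nat_lit 21, nat_lit 0), (nat_lit 7, nat_lit 1), (nat_lit 24, nat_lit 0), (nat_lit 25, nat_lit 1), (nat_lit 16, nat_lit 0), (nat_lit 15, nat_lit 1), (nat_lit 9, nat_lit 0)],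
    [[nat_lit 2, nat_lit 0], [nat_lit 2, nat_lit 4, nat_lit 2, nat_lit 4, nat_lit 2, nat_lit 2, nat_lit 4]],
    [nat_lit 0x435244d81c5a2eae4c5a5d23589ed510e0, nat_lit 0x894a9c760ae26537489b12fc66f02ba40]⟩
def certL1 : Lev := ⟨nat_lit 1, nat_lit 0x15c0882, (.node (nat_lit 19) (.node (nat_lit 11) (.node (nat_lit 7) (.leaf (nat_lit 0x6b38bdab49ca307b9ac5a928398a418820)) (.leaf (nat_lit 0x65d3549ebb623a2c09538d370b58241a80))) (.node (nat_lit 18) (.leaf (nat_lit 0x3a161e0a794e396684f0a12aa12a6bb560)) (.leaf (nat_lit 0x34c72d2f858624409ca93d2cb4079aea60)))) (.node (nat_lit 22) (.node (nat_lit 20) (.leaf (nat_lit 0x894a9c760ae26537489b12fc66f02ba40)) (.leaf (nat_lit 0x435244d81c5a2eae4c5a5d23589ed510e0))) (.node (nat_lit 24) (.leaf (nat_lit 0x184b78512a1e2d19337b55259b95a64300)) (.leaf (nat_lit 0x11a162d533d222b9a03c15359690e7e6c0)))))⟩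
def certC1 : LevCert := ⟨certL1,
    [(nat_lit 20, nat_lit 0), (nat_lit 19, nat_lit 1), (nat_lit 11, nat_lit 0), (nat_lit 24, nat_lit 1), (nat_lit 22, nat_lit 0), (nat_lit 7, nat_lit 0), (nat_lit 18, nat_lit 1)],
    [],
    []⟩
def cert : List LevCert := [certC0, certC1]
def certL : List Lev := [certL0, certL1]
/-- the numbering of the points -/
abbrev E : Enc (Fin 27) 27 5 32 := finEnc 27 5 32 rfl (by decide)
theorem ok : modelOK F4 3 27 5 32 VT R false gs cert 216 = true := by
  decide +kernel

theorem equiv {F : Type*} [Field F] [Fintype F] (hF : Fintype.card F = 2 ^ 2) : Nonempty (SU 3 F 2 ≃* E.grp gens) :=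
  let ⟨ι, _⟩ := exists_hom F4 hF
  let ⟨_, h⟩ := model_SU ι E (r := 2) hF rfl (m := 3) (by decide) ok (by decide +kernel) (by decide +kernel)
  h.equiv

end Cfsg.Agent.H77.SU32

namespace Cfsg.Agent.H77.G32

open H14 H56 H58 H3 Function FreeGroup

def ps : List ℕ := [nat_lit 0x9cc11d8e250e71720701a6662d60c24d24655416d878a2647c61503e180d,
  nat_lit 0x55d1a47e23c01d645c6da3499440948529904ce04c2e02188d715e0e764a,
  nat_lit 0x2a67e08e77422c439e6da2584165481594c73e134c9624815c645c0e4500,
  nat_lit 0x24408b8da9a07cf79c6d266555320c46259474e3500ca1971e7161918040]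

def L : List (FreeGroup (Fin 4)) := [1, of 0, (of 0)⁻¹, of 1, (of 1)⁻¹, of 2, (of 2)⁻¹, of 3, (of 3)⁻¹]

def R : List (FreeGroup (Fin 4)) := G32a.rels.map fun r => (r.map fun x => L.getD x 1).prod

theorem card_le {J : Type*} [Group J] (j : Fin 4 → J) (h : Subgroup.closure (Set.range j) = ⊤)
    (hR : ∀ w ∈ R, lift j w = 1) : Finite J ∧ Nat.card J ≤ 25920 := by
  have Q := ruleOK_of_presOK (lift j) (L := L) (code := fun i => 2 * i + 1) (iv := G32a.iv) (rels := G32a.rels)
    List.mem_finRange hR (by decide +kernel)
  have := card_step (card_step (card_step (card_step card_le_bot (G32d.relIndex_le Q ⊥ (forall_nil _)))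
    (G32c.relIndex_le Q _ (mem_clL _ [1] _ (by decide)))) (G32b.relIndex_le Q _ (mem_clL _ [1, 3] _ (by decide))))
    (G32a.relIndex_le Q _ (mem_clL _ [1, 3, 5] _ (by decide)))
  refine card_top_le (top_unique (h.ge.trans (Subgroup.closure_mono ?_))) this
  rintro _ ⟨i, rfl⟩
  exact ⟨2 * i + 1, by revert i; decide, by fin_cases i <;> simp [elOf, L]⟩

theorem pr : Pr U42.K 4 11 := by
  have v : ∀ P ∈ ps, U42.E.InG U42.K P := Enc.inG_of_slpOK
    [[0, 3, 0, 3, 0, 3], [5, 2, 5, 2, 5, 2], [5, 7, 4, 7, 4, 7, 4, 4], [7, 9, 9, 7, 9, 9, 7, 9, 9]]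
    (Enc.inG_grp_of_valid (by decide +kernel)) (by decide +kernel)
  have hp : ∀ i : Fin 4, U42.E.pk (U42.E.perm ps[i]) = ps[i] := fun i => (v _ (List.getElem_mem _)).pk_perm
  have hK : Subgroup.closure (Set.range fun i : Fin 4 => U42.E.perm ps[i]) = U42.K := by
    refine le_antisymm ((Subgroup.closure_le _).2 ?_) (Enc.grp_le (Enc.inG_of_slpOK (gens := ps)
      [[0, 3, 0, 3, 4, 2, 0], [2, 5, 3, 9, 7, 4, 7]] (fun P hP => ?_) (by decide +kernel)))
    · rintro _ ⟨i, rfl⟩; exact (v _ (List.getElem_mem _)).perm_mem
    · obtain ⟨i, hi, rfl⟩ := List.getElem_of_mem hP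
      exact hp ⟨i, hi⟩ ▸ Enc.inG_pk.2 (Subgroup.subset_closure ⟨⟨i, hi⟩, rfl⟩)
  obtain ⟨g, -, h⟩ := HP.intro_sub _ hK R (by
    simp only [R, G32a.rels, L, List.map, List.getD_cons_succ, List.getD_cons_zero, List.prod_cons, List.prod_nil,
      List.forall_mem_cons, _root_.map_mul, _root_.map_inv, _root_.map_one, lift_apply_of,
      List.not_mem_nil, false_imp_iff, implies_true, ← U42.E.pk_inj, U42.E.pk_mul, U42.E.pk_inv,
      U42.E.pk_one, hp]
    decide +kernel) fun J _ j θ h1 h2 h3 => by
      obtain ⟨_, h4⟩ := card_le j h1 h3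
      have : θ.range = U42.K := by
        rw [← hK, MonoidHom.range_eq_map, ← h1, MonoidHom.map_closure, ← Set.range_comp]
        exact congrArg (fun f => Subgroup.closure (Set.range f)) (funext h2)
      exact fun _ _ e => (θ.rangeRestrict_surjective.bijective_of_nat_card_le (by rwa [this, U42.card])).1
        (Subtype.ext e)
  exact h.pr rfl

end Cfsg.Agent.H77.G32

namespace Cfsg.Agent.H77

open H14 H56 H3

variable {F : Type*} [Field F] [Fintype F]

theorem pres_su42 (hF : Fintype.card F = 2 ^ 2) : Pr (SU 4 F 2) 4 11 :=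
  let ⟨ι, _⟩ := exists_hom F4 hF
  let ⟨_, h⟩ := model_SU ι U42.E (r := 2) hF rfl (m := 19) (by decide) U42.ok (by decide +kernel) (by decide +kernel)
  G32.pr.congr h.equiv.some.symm

theorem su32_two (hF : Fintype.card F = 2 ^ 2) :
    ∃ L : List (SU 3 F 2), L.length = 2 ∧ ∀ a, a ∈ Subgroup.closure {s | s ∈ L} := by
  obtain ⟨e⟩ := SU32.equiv hF
  have v : ∀ P ∈ SU32.gens, SU32.E.InG (SU32.E.grp SU32.gens) P := Enc.inG_grp_of_valid (by decide +kernel)
  obtain ⟨L, h1, h2⟩ := exists_sub_gens (le_refl (SU32.E.grp SU32.gens)) (L := SU32.gens.map SU32.E.perm) (by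
    refine congrArg Subgroup.closure (Set.ext fun g => List.mem_map.trans ⟨?_, fun h => ⟨_, h, SU32.E.perm_pk g⟩⟩)
    rintro ⟨P, h, rfl⟩
    rwa [Set.mem_setOf_eq, (v P h).pk_perm])
  exact ⟨L.map e.symm.toMonoidHom, by rw [List.length_map, h1]; rfl, fun a => by
    simpa using mem_closure_map e.symm.toMonoidHom ((h2 (e a)).1 (e a).2)⟩

end Cfsg.Agent.H77
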