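import Mathlib.GroupTheory.Transfer
import Cfsg.Agent.H77.ONS
import Cfsg.Agent.H46.PAction

/-! A finite group with a maximal subgroup of order one or a prime is solvable. -/

set_option autoImplicit false

namespace Cfsg.Agent.H77

variable {G : Type*} [Group G]

theorem isSolvable_of_isPGroup [Finite G] {p : ℕ} (hp : p.Prime) (h : IsPGroup p G) :
    Group.IsSolvable G := by
  have := Fact.mk hp
  have := h.isNilpotent
  infer_instance

/-- The quotient by a normal maximal subgroup is cyclic. -/
theorem isCyclic_quotient_of_coatom {H : Subgroup G} [H.Normal] (hmax : IsCoatom H) :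
    IsCyclic (G ⧸ H) := by
  obtain ⟨g, hg⟩ : ∃ g : G, g ∉ H := by
    by_contra h
    push Not at h
    exact hmax.1 (eq_top_iff.mpr fun g _ => h g)
  refine ⟨⟨(g : G ⧸ H), fun x => ?_⟩⟩
  have h1 : H < (Subgroup.zpowers (g : G ⧸ H)).comap (QuotientGroup.mk' H) := by
    refine lt_of_le_of_ne (fun h hh => ?_) fun h => hg ?_
    · rw [Subgroup.mem_comap, QuotientGroup.mk'_apply, (QuotientGroup.eq_one_iff h).mpr hh]
      exact Subgroup.one_mem _
    · rw [h]; exact Subgroup.mem_zpowers _
  obtain ⟨y, rfl⟩ := QuotientGroup.mk_surjective x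
  have : y ∈ (Subgroup.zpowers (g : G ⧸ H)).comap (QuotientGroup.mk' H) := by
    rw [hmax.2 _ h1]; trivial
  exact this

theorem isSolvable_of_normal_coatom {H : Subgroup G} [H.Normal] (hmax : IsCoatom H)
    (hs : Group.IsSolvable H) : Group.IsSolvable G := by
  have := isCyclic_quotient_of_coatom hmax
  refine (Group.isSolvable_iff_subgroup_quotient H).mpr ⟨hs, ?_⟩
  letI := IsCyclic.commGroup (α := G ⧸ H)
  exact Group.isSolvable_of_comm fun a b => mul_comm a b

theorem isSolvable_of_coatom_prime [Finite G] {H : Subgroup G} (hmax : IsCoatom H)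
    (hp : (Nat.card H).Prime) : Group.IsSolvable G := by
  have := Fact.mk hp
  have hH : IsPGroup (Nat.card H) H := IsPGroup.of_card (n := 1) (pow_one _).symm
  obtain ⟨P, hP⟩ := hH.exists_le_sylow
  rcases hP.eq_or_lt with hP | hP
  swap
  · have h1 := P.isPGroup'
    rw [hmax.2 _ hP] at h1
    exact isSolvable_of_isPGroup hp (h1.of_equiv Subgroup.topEquiv)
  rcases (Subgroup.le_normalizer (H := H)).eq_or_lt with hN | hN
  swap
  · have := Subgroup.normalizer_eq_top_iff.mp (hmax.2 _ hN)
    exact isSolvable_of_normal_coatom hmax (isSolvable_of_isPGroup hp hH)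
  have hcyc : IsCyclic H := isCyclic_of_prime_card (p := Nat.card H) rfl
  have hNC : Subgroup.normalizer ((P : Subgroup G) : Set G) ≤
      Subgroup.centralizer ((P : Subgroup G) : Set G) := by
    rw [← hP, ← hN]
    intro x hx
    rw [Subgroup.mem_centralizer_iff]
    intro y hy
    letI := IsCyclic.commGroup (α := H)
    exact congrArg Subtype.val (mul_comm (⟨y, hy⟩ : H) ⟨x, hx⟩)
  set K := (MonoidHom.transferSylow P hNC).ker with hK
  have hcomp : K.IsComplement' P := MonoidHom.ker_transferSylow_isComplement' P hNC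
  have hnd : ¬ Nat.card H ∣ Nat.card K := MonoidHom.not_dvd_card_ker_transferSylow P hNC
  have hq : Group.IsSolvable (G ⧸ K) := by
    have : Group.IsSolvable P := isSolvable_of_isPGroup hp P.isPGroup'
    exact Group.isSolvable_of_isSolvable_injective
      (QuotientGroup.kerLift_injective (MonoidHom.transferSylow P hNC))
  refine (Group.isSolvable_iff_subgroup_quotient K).mpr ⟨?_, hq⟩
  by_cases h1 : Nat.card K = 1
  · have := (Nat.card_eq_one_iff_unique.mp h1).1
    infer_instance
  obtain ⟨q, hq, hqd⟩ := Nat.exists_prime_and_dvd h1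
  have := Fact.mk hq
  obtain ⟨Q, hQ⟩ := H46.exists_invariant_sylow hH hnd (Subgroup.le_normalizer_of_normal) q
  have hdisj : ∀ x ∈ K, x ∈ H → x = 1 := by
    intro x hx hxH
    have := hcomp.disjoint
    rw [Subgroup.disjoint_def] at this
    exact this hx (hP ▸ hxH)
  rcases coatom_normalized (Y := (Q : Subgroup K).map K.subtype) hmax
    (fun h hh y hy => (Subgroup.mem_normalizer_iff.mp (hQ hh) y).mp hy) with h | h
  · exfalso
    apply Q.ne_bot_of_dvd_card hqd
    rw [Subgroup.eq_bot_iff_forall]
    intro x hx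
    exact Subtype.ext (hdisj x x.2 (h ⟨x, hx, rfl⟩))
  · apply isSolvable_of_isPGroup hq
    have : (Q : Subgroup K) = ⊤ := by
      rw [eq_top_iff]
      intro x _
      obtain ⟨_, ⟨y, hy, rfl⟩, k, hk, hyk⟩ := h x
      have h2 : k = (y⁻¹ * x : K) := by simp [hyk]
      have h3 := hdisj k (h2 ▸ (y⁻¹ * x).2) hk
      rw [h3, mul_one] at hyk
      rw [show x = y from Subtype.ext hyk]
      exact hy
    have h1 := Q.isPGroup'
    rw [this] at h1
    exact h1.of_equiv Subgroup.topEquiv

theorem not_isSolvable_of_simple_le {T : Subgroup G} (hT : IsSimpleGroup T)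
    (hTc : ¬ IsMulCommutative T) : ¬ Group.IsSolvable G := fun _ =>
  hTc ⟨⟨IsSimpleGroup.comm_iff_isSolvable.mpr inferInstance⟩⟩

end Cfsg.Agent.H77
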