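import Cfsg.Agent.H77.SRing

/-! Schur--Wielandt: an abelian group with a cyclic Sylow subgroup and not of prime order is a
B-group. -/

set_option autoImplicit false

namespace Cfsg.Agent.H77

open Finset

namespace SRel

variable {H : Type*} [CommGroup H] [Fintype H] [DecidableEq H] (S : SRel H) {p : ℕ}

theorem exists_ne_one_pow (hp : p.Prime) (hP : #{z : H | z ^ p = 1} = p) :
    ∃ z : H, z ^ p = 1 ∧ z ≠ 1 := by
  obtain ⟨z, hz, hz1⟩ := Finset.exists_mem_ne (s := ({z : H | z ^ p = 1} : Finset H))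
    (by rw [hP]; exact hp.one_lt) 1
  exact ⟨z, by simpa using hz, hz1⟩

theorem frob (hp : p.Prime) (hP : #{z : H | z ^ p = 1} = p) {T : Finset H}
    (hT : ∀ x y, S.R x y → x ∈ T → y ∈ T) {x : H} (hx : x ∈ T) (hxp : x ^ p ≠ 1) {z : H}
    (hz : z ^ p = 1) : z * x ∈ T := by
  haveI : Fact p.Prime := ⟨hp⟩
  haveI : CharP (MonoidAlgebra (ZMod p) H) p :=
    charP_of_injective_algebraMap (R := ZMod p) (fun a b h => by
      simpa using congrArg (fun f : MonoidAlgebra (ZMod p) H => f.coeff 1) h) p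
  have h1 := S.cst_pow _ (S.cst_ind (M := ZMod p) hT) p
  have h2 : ∀ y, ((∑ h ∈ T, MonoidAlgebra.single h (1 : ZMod p)) ^ p).coeff y =
      (#{h ∈ T | h ^ p = y} : ZMod p) := by
    intro y
    rw [sum_pow_char]
    simp [Finsupp.single_apply]
  obtain ⟨z0, hz0, hz01⟩ := exists_ne_one_pow hp hP
  rcases S.closure_cst (T := {y | (#{h ∈ T | h ^ p = y} : ZMod p) ≠ 0}) (fun a b hab ha => by
    simp only [Set.mem_setOf_eq, ← h2] at ha ⊢
    rwa [← h1 a b hab]) with h | h
  · have h3 : (#{h ∈ T | h ^ p = x ^ p} : ZMod p) = 0 := by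
      by_contra hne
      exact hxp (Subgroup.mem_bot.mp (h ▸ Subgroup.subset_closure hne))
    rw [ZMod.natCast_eq_zero_iff] at h3
    have h4 : ({h ∈ T | h ^ p = x ^ p} : Finset H) ⊆ ({z : H | z ^ p = 1} : Finset H).image (· * x) := by
      intro h hh
      simp only [Finset.mem_filter, Finset.mem_image, Finset.mem_univ, true_and] at hh ⊢
      exact ⟨h * x⁻¹, by rw [mul_pow, hh.2, inv_pow, mul_inv_cancel], by simp⟩
    have h5 := Finset.eq_of_subset_of_card_le h4 (by
      rw [Finset.card_image_of_injective _ (mul_left_injective x), hP]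
      exact Nat.le_of_dvd (Finset.card_pos.mpr ⟨x, by simp [hx]⟩) h3)
    have h6 : z * x ∈ ({z : H | z ^ p = 1} : Finset H).image (· * x) :=
      Finset.mem_image.mpr ⟨z, by simpa using hz, rfl⟩
    rw [← h5] at h6
    exact (Finset.mem_filter.mp h6).1
  · exfalso
    have h3 : (⊤ : Subgroup H) ≤ (powMonoidHom p : H →* H).range := by
      rw [← h, Subgroup.closure_le]
      intro y hy
      have : #{h ∈ T | h ^ p = y} ≠ 0 := fun h0 => hy (by simp [h0])
      obtain ⟨k, hk⟩ := Finset.card_ne_zero.mp this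
      exact ⟨k, (Finset.mem_filter.mp hk).2⟩
    have h4 : Function.Surjective (powMonoidHom p : H →* H) := fun y => h3 (Subgroup.mem_top y)
    have h5 := Finite.injective_iff_surjective.mpr h4
    exact hz01 (h5 (by simpa using hz0))

theorem half_lt (hp : p.Prime) (hP : #{z : H | z ^ p = 1} = p) (hc : Fintype.card H ≠ p)
    {T : Finset H} {x : H} (hx1 : x ≠ 1) (hT : ∀ y, y ∈ T ↔ S.R x y) :
    p ≤ 2 * #{z ∈ T | z ^ p = 1} := by
  have hT' : ∀ a b, S.R a b → a ∈ T → b ∈ T := fun a b hab ha => (hT b).mpr (S.trans ((hT a).mp ha) hab)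
  have hx : x ∈ T := (hT x).mpr (S.refl x)
  obtain ⟨z0, hz0, hz01⟩ := exists_ne_one_pow hp hP
  obtain ⟨z, hzT, hz⟩ : ∃ z ∈ T, z ^ p = 1 := by
    by_contra h
    push Not at h
    have := S.eq_univ_of_stable hT' hz01 (fun k hk => S.frob hp hP hT' hk (h k hk) (by
      rw [inv_pow, hz0, inv_one])) hx 1
    exact h 1 this (one_pow p)
  obtain ⟨w, hwT, hw⟩ : ∃ w ∈ T, w ^ p ≠ 1 := by
    by_contra h
    push Not at h
    rcases S.closure_cst (T := (T : Set H)) hT' with h1 | h1
    · exact hx1 (Subgroup.mem_bot.mp (h1 ▸ Subgroup.subset_closure hx))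
    · have h3 : (⊤ : Subgroup H) ≤ (powMonoidHom p : H →* H).ker := by
        rw [← h1, Subgroup.closure_le]
        intro y hy
        exact h y hy
      apply hc
      rw [← hP, Finset.filter_true_of_mem, Finset.card_univ]
      intro y _
      exact h3 (Subgroup.mem_top y)
  have hc := S.cst_card' hT' z w (S.trans (S.symm ((hT z).mp hzT)) ((hT w).mp hwT))
  set U : Finset H := {k ∈ T | k ^ p ≠ 1} with hU
  set P : Finset H := {z : H | z ^ p = 1} with hPdef
  set Q : Finset H := {z ∈ T | z ^ p = 1} with hQ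
  have h1 : #U ≤ #{k ∈ T | z⁻¹ * k ∈ T} := by
    apply Finset.card_le_card
    intro k hk
    rw [Finset.mem_filter] at hk ⊢
    exact ⟨hk.1, S.frob hp hP hT' hk.1 hk.2 (by rw [inv_pow, hz, inv_one])⟩
  have h2 : P.image (· * w) ⊆ U := by
    intro k hk
    obtain ⟨u, hu, rfl⟩ := Finset.mem_image.mp hk
    have hu' : u ^ p = 1 := by simpa [hPdef] using hu
    exact Finset.mem_filter.mpr ⟨S.frob hp hP hT' hwT hw hu', by rwa [mul_pow, hu', one_mul]⟩
  have h3 : ({k ∈ T | w⁻¹ * k ∈ T} : Finset H) ⊆ Q ∪ Q.image (· * w) ∪ (U \ P.image (· * w)) := by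
    intro k hk
    rw [Finset.mem_filter] at hk
    by_cases hkp : k ^ p = 1
    · exact Finset.mem_union_left _ (Finset.mem_union_left _ (Finset.mem_filter.mpr ⟨hk.1, hkp⟩))
    by_cases hkw : (w⁻¹ * k) ^ p = 1
    · exact Finset.mem_union_left _ (Finset.mem_union_right _
        (Finset.mem_image.mpr ⟨w⁻¹ * k, Finset.mem_filter.mpr ⟨hk.2, hkw⟩, by
          simp [mul_comm]⟩))
    · refine Finset.mem_union_right _ (Finset.mem_sdiff.mpr ⟨Finset.mem_filter.mpr ⟨hk.1, hkp⟩, ?_⟩)
      intro h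
      obtain ⟨u, hu, rfl⟩ := Finset.mem_image.mp h
      apply hkw
      simpa [hPdef, mul_comm] using hu
  have h4 := Finset.card_le_card h3
  have h5 := Finset.card_union_le (Q ∪ Q.image (· * w)) (U \ P.image (· * w))
  have h6 := Finset.card_union_le Q (Q.image (· * w))
  have h7 := Finset.card_sdiff_add_card_eq_card h2
  rw [Finset.card_image_of_injective _ (mul_left_injective w)] at h6 h7
  simp only at hc
  omega

theorem rel_of_cyclic_sylow (hp : p.Prime) (hP : #{z : H | z ^ p = 1} = p)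
    (hc : Fintype.card H ≠ p) {x y : H} (hx : x ≠ 1) (hy : y ≠ 1) : S.R x y := by
  classical
  by_contra hxy
  have h1 := S.half_lt hp hP hc (T := {z | S.R x z}) hx (by simp)
  have h2 := S.half_lt hp hP hc (T := {z | S.R y z}) hy (by simp)
  have h3 : #{z ∈ ({z | S.R x z} : Finset H) | z ^ p = 1} +
      #{z ∈ ({z | S.R y z} : Finset H) | z ^ p = 1} ≤ #(({z : H | z ^ p = 1} : Finset H).erase 1) := by
    rw [← Finset.card_union_of_disjoint]
    · apply Finset.card_le_card
      intro z hz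
      simp only [Finset.mem_union, Finset.mem_filter, Finset.mem_univ, true_and,
        Finset.mem_erase] at hz ⊢
      rcases hz with ⟨h, h'⟩ | ⟨h, h'⟩
      · exact ⟨fun e => hx (S.eq_one (S.symm (e ▸ h))), h'⟩
      · exact ⟨fun e => hy (S.eq_one (S.symm (e ▸ h))), h'⟩
    · rw [Finset.disjoint_left]
      intro z hz hz'
      simp only [Finset.mem_filter, Finset.mem_univ, true_and] at hz hz'
      exact hxy (S.trans hz.1 (S.symm hz'.1))
  rw [Finset.card_erase_of_mem (by simp), hP] at h3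
  have := hp.two_le
  omega

end SRel

/-- Schur's theorem: a primitive group with a regular cyclic subgroup of composite order is doubly
transitive. -/
theorem two_trans_of_cyclic_regular {G Ω : Type*} [Group G] [MulAction G Ω] [Finite Ω]
    (C : Subgroup G) [IsCyclic C] [MulAction.IsPretransitive C Ω] (a : Ω)
    (hreg : MulAction.stabilizer C a = ⊥) [MulAction.IsPreprimitive G Ω]
    (h1 : Nat.card Ω ≠ 1) (hnp : ¬ (Nat.card Ω).Prime) :
    MulAction.IsMultiplyPretransitive G Ω 2 := by
  classical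
  have hc : Nat.card C = Nat.card Ω := by
    have := MulAction.index_stabilizer_of_transitive C a
    rwa [hreg, Subgroup.index_bot] at this
  haveI : Nonempty Ω := ⟨a⟩
  haveI : Finite C := Nat.finite_of_card_ne_zero (by rw [hc]; exact Nat.card_pos.ne')
  letI : Fintype C := Fintype.ofFinite C
  letI : CommGroup C := IsCyclic.commGroup
  obtain ⟨p, hp, hpd⟩ := Nat.exists_prime_and_dvd h1
  apply two_trans_of_srel C a hreg
  intro x y hx hy
  refine SRel.rel_of_cyclic_sylow (H := C) (srelOf C a hreg) hp ?_ ?_ hx hy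
  · apply le_antisymm (IsCyclic.card_pow_eq_one_le hp.pos)
    haveI : Fact p.Prime := ⟨hp⟩
    obtain ⟨g, hg⟩ := exists_prime_orderOf_dvd_card' (G := C) p (hc ▸ hpd)
    have : (Finset.range p).image (g ^ ·) ⊆ ({z : C | z ^ p = 1} : Finset C) := by
      intro z hz
      obtain ⟨i, -, rfl⟩ := Finset.mem_image.mp hz
      simp only [Finset.mem_filter, Finset.mem_univ, true_and]
      rw [← pow_mul, mul_comm, pow_mul, ← hg, pow_orderOf_eq_one, one_pow]
    have h2 := Finset.card_le_card this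
    rwa [Finset.card_image_of_injOn (by
      rw [← hg, Finset.coe_range]; exact pow_injOn_Iio_orderOf), Finset.card_range] at h2
  · rw [← Nat.card_eq_fintype_card, hc]
    rintro h
    exact hnp (h ▸ hp)

end Cfsg.Agent.H77
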